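import Mathlib
import Cfsg.Prelude.Def_DStar
import Cfsg.Agent.S0015

set_option autoImplicit false

namespace Cfsg.Agent.Lib.Helper57

open scoped commutatorElement

variable {G : Type*} [Group G]

/-- Relative version of `Cfsg.dStarFamily`: `A` belongs to the family of the subgroup `T`. -/
def Fam (T A : Subgroup G) : Prop :=
  A ≤ T ∧ IsMulCommutative A ∧ ∀ x ∈ T,
    ⁅⁅A ⊔ Subgroup.zpowers x, A ⊔ Subgroup.zpowers x⁆, A ⊔ Subgroup.zpowers x⁆ = ⊥ →
      ∀ a ∈ A, a * x = x * a

theorem mem_dStarFamily_iff {A : Subgroup G} : A ∈ Cfsg.dStarFamily G ↔ Fam ⊤ A :=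
  ⟨fun h => ⟨le_top, h.1, fun x _ => h.2 x⟩, fun h => ⟨h.2.1, fun x => h.2.2 x trivial⟩⟩

theorem map_cl2 {G' : Type*} [Group G'] (f : G →* G') (A : Subgroup G) (x : G) :
    ⁅⁅A.map f ⊔ Subgroup.zpowers (f x), A.map f ⊔ Subgroup.zpowers (f x)⁆,
      A.map f ⊔ Subgroup.zpowers (f x)⁆ =
    (⁅⁅A ⊔ Subgroup.zpowers x, A ⊔ Subgroup.zpowers x⁆, A ⊔ Subgroup.zpowers x⁆).map f := by
  rw [Subgroup.map_commutator, Subgroup.map_commutator, Subgroup.map_sup, MonoidHom.map_zpowers]

theorem fam_map_iff {G' : Type*} [Group G'] (f : G →* G') (hf : Function.Injective f)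
    {T A : Subgroup G} : Fam (T.map f) (A.map f) ↔ Fam T A := by
  constructor
  · rintro ⟨h1, h2, h3⟩
    refine ⟨(Subgroup.map_le_map_iff_of_injective hf).1 h1, ?_, ?_⟩
    · refine IsMulCommutative.of_setLike_mul_comm fun a ha b hb => hf ?_
      rw [map_mul, map_mul]
      exact setLike_mul_comm (Subgroup.mem_map_of_mem f ha) (Subgroup.mem_map_of_mem f hb)
    · intro x hx hcl a ha
      apply hf
      rw [map_mul, map_mul]
      refine h3 (f x) (Subgroup.mem_map_of_mem f hx) ?_ (f a) (Subgroup.mem_map_of_mem f ha)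
      rw [map_cl2, hcl, Subgroup.map_bot]
  · rintro ⟨h1, h2, h3⟩
    refine ⟨Subgroup.map_mono h1, inferInstance, ?_⟩
    rintro _ ⟨x, hx, rfl⟩ hcl _ ⟨a, ha, rfl⟩
    rw [map_cl2, Subgroup.map_eq_bot_iff_of_injective _ hf] at hcl
    rw [← map_mul, ← map_mul, h3 x hx hcl a ha]

theorem mem_dStarFamily_subtype_iff {T : Subgroup G} {B : Subgroup T} :
    B ∈ Cfsg.dStarFamily T ↔ Fam T (B.map T.subtype) := by
  rw [mem_dStarFamily_iff, ← fam_map_iff T.subtype T.subtype_injective]
  have : (⊤ : Subgroup T).map T.subtype = T := by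
    rw [← MonoidHom.range_eq_map, Subgroup.range_subtype]
  rw [this]

theorem Fam.le_dStarOf {T A : Subgroup G} (h : Fam T A) : A ≤ Cfsg.dStarOf T := by
  have h1 : (A.subgroupOf T).map T.subtype = A := by
    rw [Subgroup.subgroupOf_map_subtype, inf_of_le_left h.1]
  have h2 : A.subgroupOf T ∈ Cfsg.dStarFamily T := by
    rw [mem_dStarFamily_subtype_iff, h1]; exact h
  rw [← h1]
  exact Subgroup.map_mono (le_sSup h2)

theorem Fam.mono {T T' A : Subgroup G} (h : Fam T A) (hT : T' ≤ T) (hA : A ≤ T') : Fam T' A :=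
  ⟨hA, h.2.1, fun x hx => h.2.2 x (hT hx)⟩

/-- If generators of `L` centralize `C` and have commutators in `C`, then `[L, L] ≤ C`. -/
theorem commutator_closure_le {C : Subgroup G} {X : Set G}
    (h1 : ∀ u ∈ X, ∀ c ∈ C, u * c = c * u) (h2 : ∀ u ∈ X, ∀ v ∈ X, ⁅u, v⁆ ∈ C) :
    ⁅Subgroup.closure X, Subgroup.closure X⁆ ≤ C := by
  have hcen : ∀ u ∈ Subgroup.closure X, ∀ c ∈ C, u * c = c * u := by
    intro u hu c hc
    have : Subgroup.closure X ≤ Subgroup.centralizer (C : Set G) := by
      rw [Subgroup.closure_le]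
      intro u hu
      rw [SetLike.mem_coe, Subgroup.mem_centralizer_iff]
      intro c hc
      exact (h1 u hu c hc).symm
    exact ((Subgroup.mem_centralizer_iff.1 (this hu)) c hc).symm
  have step1 : ∀ v ∈ X, ∀ u ∈ Subgroup.closure X, ⁅u, v⁆ ∈ C := by
    intro v hv u hu
    induction hu using Subgroup.closure_induction with
    | mem u hu => exact h2 u hu v hv
    | one => simp
    | mul a b ha _ iha ihb =>
      have : ⁅a * b, v⁆ = a * ⁅b, v⁆ * a⁻¹ * ⁅a, v⁆ := by
        simp only [commutatorElement_def]; group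
      rw [this, hcen a ha _ ihb, mul_assoc _ a, mul_inv_cancel, mul_one]
      exact C.mul_mem ihb iha
    | inv a ha iha =>
      have : ⁅a⁻¹, v⁆ = a⁻¹ * ⁅a, v⁆⁻¹ * a := by
        simp only [commutatorElement_def]; group
      rw [this, hcen a⁻¹ (Subgroup.inv_mem _ ha) _ (C.inv_mem iha), mul_assoc, inv_mul_cancel,
        mul_one]
      exact C.inv_mem iha
  rw [Subgroup.commutator_le]
  intro u hu v hv
  induction hv using Subgroup.closure_induction with
  | mem v hv => exact step1 v hv u hu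
  | one => simp
  | mul a b ha _ iha ihb =>
    have : ⁅u, a * b⁆ = ⁅u, a⁆ * (a * ⁅u, b⁆ * a⁻¹) := by
      simp only [commutatorElement_def]; group
    rw [this, hcen a ha _ ihb, mul_assoc _ a, mul_inv_cancel, mul_one]
    exact C.mul_mem iha ihb
  | inv a ha iha =>
    have : ⁅u, a⁻¹⁆ = a⁻¹ * ⁅u, a⁆⁻¹ * a := by
      simp only [commutatorElement_def]; group
    rw [this, hcen a⁻¹ (Subgroup.inv_mem _ ha) _ (C.inv_mem iha), mul_assoc, inv_mul_cancel,
      mul_one]
    exact C.inv_mem iha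

/-- Criterion for `⟨A, x⟩` to have class at most two. -/
theorem cl2_of {A C : Subgroup G} [hA : IsMulCommutative A] {x : G}
    (hAC : ∀ a ∈ A, ∀ c ∈ C, a * c = c * a) (hxC : ∀ c ∈ C, x * c = c * x)
    (hcomm : ∀ a ∈ A, ⁅x, a⁆ ∈ C) :
    ⁅⁅A ⊔ Subgroup.zpowers x, A ⊔ Subgroup.zpowers x⁆, A ⊔ Subgroup.zpowers x⁆ = ⊥ := by
  have hL : A ⊔ Subgroup.zpowers x = Subgroup.closure ((A : Set G) ∪ {x}) := by
    rw [Subgroup.closure_union, Subgroup.closure_eq, Subgroup.zpowers_eq_closure]
  have h1 : ∀ u ∈ (A : Set G) ∪ {x}, ∀ c ∈ C, u * c = c * u := by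
    rintro u (hu | hu) c hc
    · exact hAC u hu c hc
    · rw [Set.mem_singleton_iff] at hu; subst hu; exact hxC c hc
  have h2 : ∀ u ∈ (A : Set G) ∪ {x}, ∀ v ∈ (A : Set G) ∪ {x}, ⁅u, v⁆ ∈ C := by
    rintro u (hu | hu) v (hv | hv)
    · have : ⁅u, v⁆ = 1 := by
        rw [commutatorElement_eq_one_iff_mul_comm]
        exact setLike_mul_comm hu hv
      rw [this]; exact C.one_mem
    · rw [Set.mem_singleton_iff] at hv; subst hv
      rw [← commutatorElement_inv]
      exact C.inv_mem (hcomm u hu)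
    · rw [Set.mem_singleton_iff] at hu; subst hu
      exact hcomm v hv
    · rw [Set.mem_singleton_iff] at hu hv; subst hu; subst hv
      simp
  have h3 := commutator_closure_le h1 h2
  rw [← hL] at h3
  rw [eq_bot_iff]
  refine (Subgroup.commutator_mono h3 le_rfl).trans ?_
  rw [le_bot_iff, Subgroup.commutator_eq_bot_iff_le_centralizer, Subgroup.le_centralizer_iff, hL,
    Subgroup.closure_le]
  intro u hu
  rw [SetLike.mem_coe, Subgroup.mem_centralizer_iff]
  intro c hc
  exact (h1 u hu c hc).symm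

/-- Iterated commutators `[B, A, …, A]`. -/
def iterComm (B A : Subgroup G) : ℕ → Subgroup G
  | 0 => B
  | i + 1 => ⁅iterComm B A i, A⁆

theorem iterComm_le_lcs (B A : Subgroup G) (i : ℕ) :
    iterComm B A i ≤ (⊤ : Subgroup G).lowerCentralSeries i := by
  induction i with
  | zero => simp [iterComm]
  | succ i ih =>
    rw [iterComm, Subgroup.lowerCentralSeries_succ]
    exact Subgroup.commutator_mono ih le_top

theorem exists_iterComm_eq_bot [hG : Group.IsNilpotent G] (B A : Subgroup G) :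
    ∃ n, iterComm B A n = ⊥ := by
  obtain ⟨n, hn⟩ := Subgroup.nilpotent_iff_lowerCentralSeries.1 hG
  exact ⟨n, le_bot_iff.1 (hn ▸ iterComm_le_lcs B A n)⟩

theorem iterComm_le (B A : Subgroup G) [B.Normal] (i : ℕ) : iterComm B A i ≤ B := by
  induction i with
  | zero => exact le_rfl
  | succ i ih =>
    rw [iterComm]
    exact (Subgroup.commutator_mono ih le_top).trans (Subgroup.commutator_le_left B ⊤)

/-- A member of the family centralizes every abelian normal subgroup. -/
theorem Fam.commute_normal_abelian [Group.IsNilpotent G] {A : Subgroup G} (hA : Fam ⊤ A)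
    (B : Subgroup G) [B.Normal] [IsMulCommutative B] : ⁅B, A⁆ = ⊥ := by
  have := hA.2.1
  have step : ∀ i, iterComm B A (i + 2) = ⊥ → iterComm B A (i + 1) = ⊥ := by
    intro i hi
    set C := iterComm B A (i + 1) with hC
    have hCA : ⁅C, A⁆ = ⊥ := hi
    have hCB : C ≤ B := iterComm_le B A (i + 1)
    rw [Subgroup.commutator_eq_bot_iff_le_centralizer] at hCA
    show ⁅iterComm B A i, A⁆ = ⊥
    rw [Subgroup.commutator_eq_bot_iff_le_centralizer]
    intro x hx
    rw [Subgroup.mem_centralizer_iff]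
    intro a ha
    refine hA.2.2 x trivial (cl2_of (C := C) ?_ ?_ ?_) a ha
    · intro a ha c hc
      exact (Subgroup.mem_centralizer_iff.1 (hCA hc)) a ha
    · intro c hc
      exact setLike_mul_comm (iterComm_le B A i hx) (hCB hc)
    · intro a ha
      exact Subgroup.commutator_mem_commutator hx ha
  obtain ⟨n, hn⟩ := exists_iterComm_eq_bot B A
  have : ∀ k, iterComm B A (k + 1) = ⊥ → iterComm B A 1 = ⊥ := by
    intro k
    induction k with
    | zero => exact id
    | succ k ih => exact fun h => ih (step k h)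
  rcases n with _ | n
  · have hB : B = ⊥ := hn
    rw [hB]; simp
  · exact this n hn

/-- `D*(S)` lies in every maximal normal abelian subgroup. -/
theorem dStar_le_of_maximal [Finite G] [Group.IsNilpotent G] (B : Subgroup G) [B.Normal]
    [IsMulCommutative B]
    (hmax : ∀ M : Subgroup G, M.Normal → IsMulCommutative M → B ≤ M → M = B) :
    Cfsg.dStar G ≤ B := by
  have hcen := Cfsg.Agent.S0015.result B hmax
  apply sSup_le
  intro A hA
  rw [mem_dStarFamily_iff] at hA
  have h1 := hA.commute_normal_abelian B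
  rw [Subgroup.commutator_eq_bot_iff_le_centralizer, Subgroup.le_centralizer_iff, hcen] at h1
  exact h1

theorem exists_maximal_normal_abelian [Finite G] :
    ∃ B : Subgroup G, B.Normal ∧ IsMulCommutative B ∧
      ∀ M : Subgroup G, M.Normal → IsMulCommutative M → B ≤ M → M = B := by
  have hfin : ({M : Subgroup G | M.Normal ∧ IsMulCommutative M}).Finite := Set.toFinite _
  have hbot : (⊥ : Subgroup G) ∈ {M : Subgroup G | M.Normal ∧ IsMulCommutative M} :=
    ⟨inferInstance, inferInstance⟩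
  obtain ⟨B, -, hB⟩ := hfin.exists_le_maximal hbot
  refine ⟨B, hB.prop.1, hB.prop.2, fun M h1 h2 h3 => ?_⟩
  exact le_antisymm (hB.le_of_ge ⟨h1, h2⟩ h3) h3

/-- `D*(S)` belongs to its defining family. -/
theorem dStar_mem [Finite G] [Group.IsNilpotent G] : Cfsg.dStar G ∈ Cfsg.dStarFamily G := by
  obtain ⟨B, hBn, hBc, hmax⟩ := exists_maximal_normal_abelian (G := G)
  have hle := dStar_le_of_maximal B hmax
  refine ⟨?_, ?_⟩
  · exact IsMulCommutative.of_setLike_mul_comm fun a ha b hb => setLike_mul_comm (hle ha) (hle hb)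
  · intro x hcl
    have h1 : Cfsg.dStar G ≤ Subgroup.centralizer {x} := by
      apply sSup_le
      intro A hA a ha
      rw [Subgroup.mem_centralizer_singleton_iff]
      refine hA.2 x ?_ a ha
      rw [eq_bot_iff, ← hcl]
      have hmono : A ⊔ Subgroup.zpowers x ≤ Cfsg.dStar G ⊔ Subgroup.zpowers x :=
        sup_le_sup_right (le_sSup hA) _
      exact Subgroup.commutator_mono (Subgroup.commutator_mono hmono hmono) hmono
    intro a ha
    exact Subgroup.mem_centralizer_singleton_iff.1 (h1 ha)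

end Cfsg.Agent.Lib.Helper57
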