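import Mathlib
import Cfsg.Prelude.Def_PLocal
import Cfsg.Agent.Lib.Helper57.SE
import Cfsg.Agent.Lib.Helper57.SylowNormal
import Cfsg.Agent.Lib.Helper57.DStar

set_option autoImplicit false

namespace Cfsg.Agent.Lib.Helper57

open scoped commutatorElement

variable {G : Type*} [Group G]

theorem relIndex_sup_right' {H K : Subgroup G} (h : H ≤ Subgroup.normalizer (K : Set G)) :
    K.relIndex (H ⊔ K) = K.relIndex H := by
  have hKL : K ≤ H ⊔ K := le_sup_right
  have hHL : H ≤ H ⊔ K := le_sup_left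
  have hLN : H ⊔ K ≤ Subgroup.normalizer (K : Set G) := sup_le h Subgroup.le_normalizer
  have : (K.subgroupOf (H ⊔ K)).Normal := (Subgroup.normal_subgroupOf_iff_le_normalizer hKL).2 hLN
  have key := Subgroup.relIndex_sup_right (H.subgroupOf (H ⊔ K)) (K.subgroupOf (H ⊔ K))
  rw [← Subgroup.subgroupOf_sup hHL hKL, Subgroup.relIndex_subgroupOf le_rfl,
    Subgroup.relIndex_subgroupOf hHL] at key
  exact key

theorem card_sup_mul_card_inf' {H K : Subgroup G} (h : H ≤ Subgroup.normalizer (K : Set G)) :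
    Nat.card ↥(H ⊔ K) * Nat.card ↥(H ⊓ K) = Nat.card H * Nat.card K := by
  have h1 := card_mul_relIndex (le_sup_right : K ≤ H ⊔ K)
  have h2 := card_mul_relIndex (inf_le_left : H ⊓ K ≤ H)
  rw [relIndex_sup_right' h] at h1
  rw [Subgroup.inf_relIndex_left] at h2
  rw [← h1, ← h2]; ring

theorem isMulCommutative_sup {Z D : Subgroup G} [IsMulCommutative Z] [IsMulCommutative D]
    (h : D ≤ Subgroup.centralizer (Z : Set G)) : IsMulCommutative ↥(Z ⊔ D) := by
  rw [← Subgroup.le_centralizer_iff_isMulCommutative]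
  apply sup_le
  · rw [Subgroup.le_centralizer_iff]
    exact sup_le (Subgroup.le_centralizer Z) h
  · rw [Subgroup.le_centralizer_iff]
    apply sup_le
    · rw [Subgroup.le_centralizer_iff]; exact h
    · exact Subgroup.le_centralizer D

theorem replacement_core [Finite G] {A A' N : Subgroup G} [IsMulCommutative A]
    [IsMulCommutative A'] [IsMulCommutative N]
    (hcard : Nat.card A' = Nat.card A)
    (h1 : A' ≤ Subgroup.normalizer (A : Set G)) (h2 : A ≤ Subgroup.normalizer (A' : Set G))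
    (hC : A' ≤ A ⊔ ((A ⊔ A') ⊓ N)) :
    IsMulCommutative ↥((A ⊓ A') ⊔ ((A ⊔ A') ⊓ N)) ∧
      Nat.card A ≤ Nat.card ↥((A ⊓ A') ⊔ ((A ⊔ A') ⊓ N)) := by
  set C := A ⊔ A' with hCdef
  set Z := A ⊓ A' with hZdef
  set D := C ⊓ N with hDdef
  have hZC : C ≤ Subgroup.centralizer (Z : Set G) := by
    apply sup_le
    · exact (Subgroup.le_centralizer A).trans (Subgroup.centralizer_le (by exact_mod_cast (inf_le_left : Z ≤ A)))
    · exact (Subgroup.le_centralizer A').trans (Subgroup.centralizer_le (by exact_mod_cast (inf_le_right : Z ≤ A')))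
  have hDC : D ≤ C := inf_le_left
  have : IsMulCommutative Z :=
    IsMulCommutative.of_setLike_mul_comm fun a ha b hb => setLike_mul_comm (s := A) ha.1 hb.1
  have : IsMulCommutative D :=
    IsMulCommutative.of_setLike_mul_comm fun a ha b hb => setLike_mul_comm (s := N) ha.2 hb.2
  refine ⟨isMulCommutative_sup (hDC.trans hZC), ?_⟩
  have e1 := card_sup_mul_card_inf' h2
  have hCN : C ≤ Subgroup.normalizer (A : Set G) := sup_le Subgroup.le_normalizer h1
  have e2 := card_sup_mul_card_inf' (hDC.trans hCN)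
  have hDA : D ⊔ A = C := by
    apply le_antisymm (sup_le hDC le_sup_left)
    apply sup_le le_sup_right
    rw [sup_comm]; exact hC
  have e3 := card_sup_mul_card_inf' ((hDC.trans hZC).trans (Subgroup.centralizer_le_normalizer _))
  have e4 : Nat.card ↥(D ⊓ Z) ≤ Nat.card ↥(D ⊓ A) :=
    Subgroup.card_le_of_le (inf_le_inf_left D inf_le_left)
  rw [hDA] at e2
  rw [sup_comm D Z] at e3
  rw [hcard] at e1
  have hapos : 0 < Nat.card A := Nat.card_pos
  have hdpos : 0 < Nat.card D := Nat.card_pos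
  have hcpos : 0 < Nat.card C := Nat.card_pos
  generalize Nat.card A = a at *
  generalize Nat.card C = c at *
  generalize Nat.card Z = z at *
  generalize Nat.card D = d at *
  generalize Nat.card ↥(D ⊓ A) = u at *
  generalize Nat.card ↥(D ⊓ Z) = w at *
  generalize Nat.card ↥(Z ⊔ D) = s at *
  -- c z = a a, c u = d a, s w = d z, w ≤ u ⊢ a ≤ s
  have k1 : s * w ≤ s * u := Nat.mul_le_mul_left s e4
  have k2 : (a * d) * a ≤ (a * d) * s := by
    calc (a * d) * a = d * (a * a) := by ring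
      _ = d * (c * z) := by rw [e1]
      _ = c * (d * z) := by ring
      _ = c * (s * w) := by rw [e3]
      _ ≤ c * (s * u) := Nat.mul_le_mul_left c k1
      _ = s * (c * u) := by ring
      _ = s * (d * a) := by rw [e2]
      _ = (a * d) * s := by ring
  exact Nat.le_of_mul_le_mul_left k2 (Nat.mul_pos hapos hdpos)

theorem card_map_conj (B : Subgroup G) (g : G) :
    Nat.card (B.map (MulAut.conj g).toMonoidHom) = Nat.card B :=
  Subgroup.card_map_of_injective (MulAut.conj g).injective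

theorem replacement_conj [Finite G] {B N : Subgroup G} (hB : B ∈ Cfsg.maxAbelianSubgroups G)
    [IsMulCommutative N] (g : G)
    (h1 : ∀ b ∈ B, g * b * g⁻¹ ∈ Subgroup.normalizer (B : Set G))
    (h2 : ∀ b ∈ B, g⁻¹ * b * g ∈ Subgroup.normalizer (B : Set G))
    (h3 : ∀ b ∈ B, b⁻¹ * (g * b * g⁻¹) ∈ N) :
    ∃ Bs ∈ Cfsg.maxAbelianSubgroups G, Bs ≤ B ⊔ B.map (MulAut.conj g).toMonoidHom ∧
      B ⊓ N ≤ Bs ⊓ N ∧ (Bs ⊓ N ≤ B → g ∈ Subgroup.normalizer (B : Set G)) := by
  have := hB.1
  set B' := B.map (MulAut.conj g).toMonoidHom with hB'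
  have hmem : ∀ b ∈ B, g * b * g⁻¹ ∈ B' := by
    intro b hb
    rw [hB', mem_map_conj]
    have : g⁻¹ * (g * b * g⁻¹) * g = b := by group
    rw [this]; exact hb
  have hn1 : B' ≤ Subgroup.normalizer (B : Set G) := by
    intro y hy
    rw [hB', mem_map_conj] at hy
    have : y = g * (g⁻¹ * y * g) * g⁻¹ := by group
    rw [this]; exact h1 _ hy
  have hn2 : B ≤ Subgroup.normalizer (B' : Set G) := by
    rw [Subgroup.le_normalizer_iff]
    intro b hb y hy
    rw [hB', mem_map_conj] at hy ⊢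
    have : g⁻¹ * (b * y * b⁻¹) * g = (g⁻¹ * b * g) * (g⁻¹ * y * g) * (g⁻¹ * b * g)⁻¹ := by group
    rw [this]
    exact (Subgroup.mem_normalizer_iff.1 (h2 b hb) _).1 hy
  have hC : B' ≤ B ⊔ ((B ⊔ B') ⊓ N) := by
    intro y hy
    have hy' := hy
    rw [hB', mem_map_conj] at hy'
    set b := g⁻¹ * y * g with hb
    have hyb : y = g * b * g⁻¹ := by rw [hb]; group
    have : y = b * (b⁻¹ * (g * b * g⁻¹)) := by rw [← hyb]; group
    rw [this]
    refine Subgroup.mul_mem_sup hy' (Subgroup.mem_inf.2 ⟨?_, h3 b hy'⟩)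
    rw [← hyb]
    exact Subgroup.mul_mem _ (Subgroup.mem_sup_left (B.inv_mem hy')) (Subgroup.mem_sup_right hy)
  obtain ⟨hc1, hc2⟩ := replacement_core (card_map_conj B g) hn1 hn2 hC
  refine ⟨_, ⟨hc1, fun X hX => (hB.2 X hX).trans hc2⟩, ?_, ?_, ?_⟩
  · exact sup_le (inf_le_left.trans le_sup_left) inf_le_left
  · refine le_inf ?_ inf_le_right
    exact (inf_le_inf_right N le_sup_left).trans le_sup_right
  · intro hle
    have hD : (B ⊔ B') ⊓ N ≤ B := (le_inf le_sup_right inf_le_right).trans hle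
    have hB'B : B' ≤ B := hC.trans (sup_le le_rfl hD)
    have heq : B' = B := Subgroup.eq_of_le_of_card_ge hB'B (card_map_conj B g).ge
    rw [Subgroup.mem_normalizer_iff_map_conj_eq]
    exact heq

theorem thompson_replacement [Finite G] [Group.IsNilpotent G] {A N : Subgroup G}
    (hA : A ∈ Cfsg.maxAbelianSubgroups G) [hNn : N.Normal] [IsMulCommutative N]
    (hN : ¬ N ≤ Subgroup.normalizer (A : Set G)) :
    ∃ As ∈ Cfsg.maxAbelianSubgroups G, A ⊓ N < As ⊓ N ∧
      As ≤ Subgroup.normalizer (A : Set G) ∧ As ≤ Subgroup.normalClosure (A : Set G) := by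
  classical
  have hex : ∃ n, iterComm N A n ≤ Subgroup.normalizer (A : Set G) := by
    obtain ⟨n, hn⟩ := exists_iterComm_eq_bot N A
    exact ⟨n, hn ▸ bot_le⟩
  have hi0 : Nat.find hex ≠ 0 := by
    intro h0
    have := Nat.find_spec hex
    rw [h0] at this
    exact hN this
  obtain ⟨j, hj⟩ := Nat.exists_eq_succ_of_ne_zero hi0
  have hj1 : iterComm N A (j + 1) ≤ Subgroup.normalizer (A : Set G) := by
    have := Nat.find_spec hex
    rwa [hj] at this
  have hj0 : ¬ iterComm N A j ≤ Subgroup.normalizer (A : Set G) :=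
    Nat.find_min hex (by omega)
  obtain ⟨x, hx, hxN⟩ := SetLike.not_le_iff_exists.1 hj0
  have hxNN : x ∈ N := iterComm_le N A j hx
  have hAn : A ≤ Subgroup.normalizer (A : Set G) := Subgroup.le_normalizer
  have h1 : ∀ a ∈ A, x * a * x⁻¹ ∈ Subgroup.normalizer (A : Set G) := by
    intro a ha
    have : x * a * x⁻¹ = ⁅x, a⁆ * a := by simp only [commutatorElement_def]; group
    rw [this]
    exact Subgroup.mul_mem _ (hj1 (Subgroup.commutator_mem_commutator hx ha)) (hAn ha)
  have h2 : ∀ a ∈ A, x⁻¹ * a * x ∈ Subgroup.normalizer (A : Set G) := by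
    intro a ha
    have : x⁻¹ * a * x = a * ⁅x⁻¹, a⁻¹⁆⁻¹ := by simp only [commutatorElement_def]; group
    rw [this]
    refine Subgroup.mul_mem _ (hAn ha) (Subgroup.inv_mem _ (hj1 ?_))
    exact Subgroup.commutator_mem_commutator (Subgroup.inv_mem _ hx) (A.inv_mem ha)
  have h3 : ∀ a ∈ A, a⁻¹ * (x * a * x⁻¹) ∈ N := by
    intro a _
    have : a⁻¹ * (x * a * x⁻¹) = (a⁻¹ * x * a⁻¹⁻¹) * x⁻¹ := by group
    rw [this]
    exact N.mul_mem (hNn.conj_mem x hxNN a⁻¹) (N.inv_mem hxNN)
  obtain ⟨As, hAs, hle, hinf, himp⟩ := replacement_conj hA x h1 h2 h3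
  refine ⟨As, hAs, lt_of_le_of_ne hinf ?_, hle.trans ?_, hle.trans ?_⟩
  · intro heq
    exact hxN (himp (heq ▸ inf_le_left))
  · refine sup_le hAn ?_
    intro y hy
    rw [mem_map_conj] at hy
    have : y = x * (x⁻¹ * y * x) * x⁻¹ := by group
    rw [this]; exact h1 _ hy
  · refine sup_le Subgroup.le_normalClosure ?_
    intro y hy
    rw [mem_map_conj] at hy
    have : y = x * (x⁻¹ * y * x) * x⁻¹ := by group
    rw [this]
    exact Subgroup.normalClosure_normal.conj_mem _ (Subgroup.le_normalClosure hy) x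

end Cfsg.Agent.Lib.Helper57
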