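import Mathlib

set_option autoImplicit false
set_option linter.unusedSectionVars false

namespace Cfsg.Agent.Lib.Helper57.Repl2

variable {S : Type*} [Group S]

theorem mem_normalizer_of_conj [Finite S] {K : Subgroup S} {g : S}
    (h : ∀ x ∈ K, g * x * g⁻¹ ∈ K) : g ∈ Subgroup.normalizer (K : Set S) := by
  have hpow : ∀ n : ℕ, ∀ x ∈ K, g ^ n * x * (g ^ n)⁻¹ ∈ K := by
    intro n
    induction n with
    | zero => intro x hx; simpa using hx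
    | succ n ih =>
      intro x hx
      have := h _ (ih x hx)
      have e : g ^ (n + 1) * x * (g ^ (n + 1))⁻¹ = g * (g ^ n * x * (g ^ n)⁻¹) * g⁻¹ := by
        rw [pow_succ']; group
      rw [e]; exact this
  rw [Subgroup.mem_normalizer_iff]
  intro x
  refine ⟨h x, fun hx => ?_⟩
  have hfin : IsOfFinOrder g := isOfFinOrder_of_finite g
  have hpos : 0 < orderOf g := hfin.orderOf_pos
  have hinv : g ^ (orderOf g - 1) = g⁻¹ := by
    apply eq_inv_of_mul_eq_one_left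
    rw [← pow_succ, Nat.sub_add_cancel hpos, pow_orderOf_eq_one]
  have := hpow (orderOf g - 1) _ hx
  rw [hinv] at this
  simpa [mul_assoc] using this

/-- general commutator computation -/
theorem comm_aux {g x y z : S} (h1 : g * x = x * g) (h2 : z * g⁻¹ = g⁻¹ * z) :
    g * (x * y * z) * g⁻¹ * (x * y * z)⁻¹ = x * (g * y * g⁻¹ * y⁻¹) * x⁻¹ := by
  calc g * (x * y * z) * g⁻¹ * (x * y * z)⁻¹
      = (g * x) * y * (z * g⁻¹) * (x * y * z)⁻¹ := by group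
    _ = (x * g) * y * (g⁻¹ * z) * (x * y * z)⁻¹ := by rw [h1, h2]
    _ = x * (g * y * g⁻¹ * y⁻¹) * x⁻¹ := by group

theorem mul_pow_of_central {x y k : S} (hk : y * x = x * y * k) (hkx : k * x = x * k)
    (hky : k * y = y * k) (n : ℕ) : (x * y) ^ n = x ^ n * y ^ n * k ^ (n.choose 2) := by
  have hyn : ∀ n : ℕ, y ^ n * x = x * y ^ n * k ^ n := by
    intro n
    induction n with
    | zero => simp
    | succ n ih =>
      have hkyn : Commute (k ^ n) y := (Commute.pow_left (show Commute k y from hky) n)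
      calc y ^ (n + 1) * x = y ^ n * (y * x) := by rw [pow_succ]; group
        _ = y ^ n * (x * y * k) := by rw [hk]
        _ = (y ^ n * x) * y * k := by group
        _ = (x * y ^ n * k ^ n) * y * k := by rw [ih]
        _ = x * y ^ n * (k ^ n * y) * k := by group
        _ = x * y ^ n * (y * k ^ n) * k := by rw [hkyn.eq]
        _ = x * y ^ (n + 1) * k ^ (n + 1) := by rw [pow_succ, pow_succ]; group
  induction n with
  | zero => simp
  | succ n ih =>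
    have hc1 : Commute (k ^ (n.choose 2)) x := Commute.pow_left (show Commute k x from hkx) _
    have hc2 : Commute (k ^ (n.choose 2)) y := Commute.pow_left (show Commute k y from hky) _
    have hc3 : Commute (k ^ n) y := Commute.pow_left (show Commute k y from hky) _
    have hch : (n + 1).choose 2 = n.choose 2 + n := by
      rw [Nat.choose_succ_succ' n 1, Nat.choose_one_right, add_comm]
    calc (x * y) ^ (n + 1) = (x * y) ^ n * (x * y) := pow_succ _ _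
      _ = x ^ n * y ^ n * k ^ (n.choose 2) * (x * y) := by rw [ih]
      _ = x ^ n * y ^ n * (k ^ (n.choose 2) * x) * y := by group
      _ = x ^ n * y ^ n * (x * k ^ (n.choose 2)) * y := by rw [hc1.eq]
      _ = x ^ n * (y ^ n * x) * (k ^ (n.choose 2) * y) := by group
      _ = x ^ n * (x * y ^ n * k ^ n) * (y * k ^ (n.choose 2)) := by rw [hyn, hc2.eq]
      _ = x ^ n * x * y ^ n * (k ^ n * y) * k ^ (n.choose 2) := by group
      _ = x ^ n * x * y ^ n * (y * k ^ n) * k ^ (n.choose 2) := by rw [hc3.eq]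
      _ = x ^ (n + 1) * y ^ (n + 1) * k ^ ((n + 1).choose 2) := by
          rw [hch, pow_succ, pow_succ, pow_add, (Commute.pow_pow_self k _ _).eq]; group

structure Data (A B : Subgroup S) (b : S) : Prop where
  An : ∀ a ∈ A, ∀ x ∈ B, a * x * a⁻¹ ∈ B
  Acomm : ∀ x ∈ A, ∀ y ∈ A, x * y = y * x
  BA : ∀ x ∈ B, ∀ y ∈ B, x * y * x⁻¹ * y⁻¹ ∈ A
  hb : b ∈ B
  hb1 : ∀ a ∈ A, b⁻¹ * a * b ∈ Subgroup.normalizer (A : Set S)
  hb2 : ∀ a ∈ A, b * a * b⁻¹ ∈ Subgroup.normalizer (A : Set S)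
  hbA : b ∉ Subgroup.normalizer (A : Set S)
  odd : (∀ x ∈ B, ∀ y ∈ B, x * y = y * x) ∨ ∃ m : ℕ, (b ^ 2) ^ m = b

abbrev A1 (A : Subgroup S) (b : S) : Subgroup S := A.map (MulAut.conj (b⁻¹)).toMonoidHom

abbrev DD (A : Subgroup S) (b : S) : Subgroup S := A ⊓ A1 A b

def cc (b a : S) : S := a * b⁻¹ * a⁻¹ * b

def ww (b a a' : S) : S := a' * (b⁻¹ * a * b)⁻¹ * a'⁻¹ * (b⁻¹ * a * b)

abbrev CC (A : Subgroup S) (b : S) : Subgroup S :=
  Subgroup.closure {g : S | ∃ a ∈ A, g = a * b⁻¹ * a⁻¹ * b}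

abbrev Astar (A : Subgroup S) (b : S) : Subgroup S := DD A b ⊔ CC A b

theorem mem_A1 {A : Subgroup S} {b x : S} : x ∈ A1 A b ↔ b * x * b⁻¹ ∈ A := by
  rw [Subgroup.mem_map]
  constructor
  · rintro ⟨a, ha, rfl⟩
    have : b * ((MulAut.conj b⁻¹).toMonoidHom a) * b⁻¹ = a := by
      simp [mul_assoc]
    rw [this]; exact ha
  · intro h
    refine ⟨_, h, ?_⟩
    simp [mul_assoc]

namespace Data

variable {A B : Subgroup S} {b : S} (d : Data A B b)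
include d

theorem bar_mem {a : S} (ha : a ∈ A) : b⁻¹ * a * b ∈ A1 A b := by
  rw [mem_A1]
  have : b * (b⁻¹ * a * b) * b⁻¹ = a := by group
  rw [this]; exact ha

theorem A1_le_N : A1 A b ≤ Subgroup.normalizer (A : Set S) := by
  intro y hy
  rw [mem_A1] at hy
  have := d.hb1 _ hy
  have e : b⁻¹ * (b * y * b⁻¹) * b = y := by group
  rwa [e] at this

omit d in
theorem conj_mem_of_N {n a : S} (hn : n ∈ Subgroup.normalizer (A : Set S)) (ha : a ∈ A) :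
    n * a * n⁻¹ ∈ A := ((Subgroup.mem_normalizer_iff.mp hn) a).mp ha

theorem A1_conj_A {y a : S} (hy : y ∈ A1 A b) (ha : a ∈ A) : y * a * y⁻¹ ∈ A :=
  conj_mem_of_N (d.A1_le_N hy) ha

theorem A_conj_A1 {y a : S} (hy : y ∈ A1 A b) (ha : a ∈ A) : a * y * a⁻¹ ∈ A1 A b := by
  rw [mem_A1] at hy ⊢
  have h1 := d.hb2 _ ha
  have h2 := conj_mem_of_N h1 hy
  have e : b * (a * y * a⁻¹) * b⁻¹ = b * a * b⁻¹ * (b * y * b⁻¹) * (b * a * b⁻¹)⁻¹ := by group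
  rw [e]; exact h2

theorem A1comm {x y : S} (hx : x ∈ A1 A b) (hy : y ∈ A1 A b) : x * y = y * x := by
  rw [mem_A1] at hx hy
  have h := d.Acomm _ hx _ hy
  have e1 : x * y = b⁻¹ * ((b * x * b⁻¹) * (b * y * b⁻¹)) * b := by group
  have e2 : y * x = b⁻¹ * ((b * y * b⁻¹) * (b * x * b⁻¹)) * b := by group
  rw [e1, e2, h]

theorem BB_D {x y : S} (hx : x ∈ B) (hy : y ∈ B) : x * y * x⁻¹ * y⁻¹ ∈ DD A b := by
  refine ⟨d.BA x hx y hy, ?_⟩
  change x * y * x⁻¹ * y⁻¹ ∈ A1 A b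
  rw [mem_A1]
  have h1 := B.mul_mem (B.mul_mem d.hb hx) (B.inv_mem d.hb)
  have h2 := B.mul_mem (B.mul_mem d.hb hy) (B.inv_mem d.hb)
  have := d.BA _ h1 _ h2
  have e : b * (x * y * x⁻¹ * y⁻¹) * b⁻¹ =
      b * x * b⁻¹ * (b * y * b⁻¹) * (b * x * b⁻¹)⁻¹ * (b * y * b⁻¹)⁻¹ := by group
  rw [e]; exact this

theorem kap_mem {a y : S} (ha : a ∈ A) (hy : y ∈ A1 A b) : a * y * a⁻¹ * y⁻¹ ∈ DD A b := by
  refine ⟨?_, ?_⟩
  · have := A.mul_mem ha (d.A1_conj_A hy (A.inv_mem ha))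
    have e : a * y * a⁻¹ * y⁻¹ = a * (y * a⁻¹ * y⁻¹) := by group
    rw [SetLike.mem_coe, e]; exact this
  · exact (A1 A b).mul_mem (d.A_conj_A1 hy ha) ((A1 A b).inv_mem hy)

theorem D_comm_A {k a : S} (hk : k ∈ DD A b) (ha : a ∈ A) : k * a = a * k := d.Acomm k hk.1 a ha

theorem D_comm_A1 {k y : S} (hk : k ∈ DD A b) (hy : y ∈ A1 A b) : k * y = y * k :=
  d.A1comm hk.2 hy

theorem cc_mem_B {a : S} (ha : a ∈ A) : cc b a ∈ B := by
  have := B.mul_mem (d.An a ha _ (B.inv_mem d.hb)) d.hb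
  exact this

omit d in
theorem cc_eq (a : S) : cc b a = a * (b⁻¹ * a * b)⁻¹ := by unfold cc; group

theorem ww_mem {a a' : S} (ha : a ∈ A) (ha' : a' ∈ A) : ww b a a' ∈ DD A b := by
  have := d.kap_mem ha' ((A1 A b).inv_mem (d.bar_mem ha))
  rw [inv_inv] at this
  exact this

omit d in
theorem bar_ww_aux (a a' b : S) :
    b⁻¹ * (a' * (b⁻¹ * a * b)⁻¹ * a'⁻¹ * (b⁻¹ * a * b)) * b =
    (b⁻¹ * a' * b) * ((b⁻¹ * a * b)⁻¹ * a * ((b⁻¹ * a * b)⁻¹ *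
      ((cc b a)⁻¹ * b⁻¹ * (cc b a)⁻¹⁻¹ * b⁻¹⁻¹))) * (b⁻¹ * a' * b)⁻¹ *
      ((b⁻¹ * a * b)⁻¹ * a * ((b⁻¹ * a * b)⁻¹ *
      ((cc b a)⁻¹ * b⁻¹ * (cc b a)⁻¹⁻¹ * b⁻¹⁻¹)))⁻¹ := by
  unfold cc
  simp only [mul_inv_rev, inv_inv, mul_assoc, inv_mul_cancel_left, mul_inv_cancel_left]

theorem bar_ww {a a' : S} (ha : a ∈ A) (ha' : a' ∈ A) : b⁻¹ * ww b a a' * b = ww b a' a := by
  have ht : (cc b a)⁻¹ * b⁻¹ * (cc b a)⁻¹⁻¹ * b⁻¹⁻¹ ∈ DD A b :=
    d.BB_D (B.inv_mem (d.cc_mem_B ha)) (B.inv_mem d.hb)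
  have hbar := d.bar_mem ha
  have hbar' := d.bar_mem ha'
  have h1 : (b⁻¹ * a' * b) * (b⁻¹ * a * b)⁻¹ = (b⁻¹ * a * b)⁻¹ * (b⁻¹ * a' * b) :=
    d.A1comm hbar' ((A1 A b).inv_mem hbar)
  have h2 : ((b⁻¹ * a * b)⁻¹ * ((cc b a)⁻¹ * b⁻¹ * (cc b a)⁻¹⁻¹ * b⁻¹⁻¹)) * (b⁻¹ * a' * b)⁻¹ =
      (b⁻¹ * a' * b)⁻¹ * ((b⁻¹ * a * b)⁻¹ * ((cc b a)⁻¹ * b⁻¹ * (cc b a)⁻¹⁻¹ * b⁻¹⁻¹)) :=
    d.A1comm ((A1 A b).mul_mem ((A1 A b).inv_mem hbar) ht.2) ((A1 A b).inv_mem hbar')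
  unfold ww
  rw [bar_ww_aux, comm_aux h1 h2]
  have hk : (b⁻¹ * a' * b) * a * (b⁻¹ * a' * b)⁻¹ * a⁻¹ ∈ DD A b := by
    have := (DD A b).inv_mem (d.kap_mem ha hbar')
    have e : (a * (b⁻¹ * a' * b) * a⁻¹ * (b⁻¹ * a' * b)⁻¹)⁻¹ =
        (b⁻¹ * a' * b) * a * (b⁻¹ * a' * b)⁻¹ * a⁻¹ := by group
    rwa [e] at this
  have c1 := d.D_comm_A1 hk ((A1 A b).inv_mem hbar)
  have c2 := d.D_comm_A1 hk hbar'
  calc (b⁻¹ * a * b)⁻¹ * ((b⁻¹ * a' * b) * a * (b⁻¹ * a' * b)⁻¹ * a⁻¹) * (b⁻¹ * a * b)⁻¹⁻¹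
      = ((b⁻¹ * a' * b) * a * (b⁻¹ * a' * b)⁻¹ * a⁻¹) := by rw [← c1]; group
    _ = (b⁻¹ * a' * b)⁻¹ * (((b⁻¹ * a' * b) * a * (b⁻¹ * a' * b)⁻¹ * a⁻¹) * (b⁻¹ * a' * b)) := by
        rw [c2]; group
    _ = a * (b⁻¹ * a' * b)⁻¹ * a⁻¹ * (b⁻¹ * a' * b) := by group

theorem cc_comm {a a' : S} (ha : a ∈ A) (ha' : a' ∈ A) : cc b a * cc b a' = cc b a' * cc b a := by
  rcases d.odd with hab | ⟨m, hm⟩
  · exact hab _ (d.cc_mem_B ha) _ (d.cc_mem_B ha')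
  · have hw : ww b a a' = ww b a' a := by
      have e1 := d.bar_ww ha ha'
      have e2 := d.bar_ww ha' ha
      have hc2 : Commute (b ^ 2) (ww b a a') := by
        have : b⁻¹ * (b⁻¹ * ww b a a' * b) * b = ww b a a' := by rw [e1, e2]
        have h3 : ww b a a' * (b * b) = (b * b) * ww b a a' := by
          conv_rhs => rw [← this]
          simp only [mul_assoc, mul_inv_cancel_left]
        rw [pow_two]
        exact h3.symm
      have hc : Commute b (ww b a a') := by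
        have := hc2.pow_left m
        rwa [hm] at this
      rw [← e1]
      have : b * ww b a a' = ww b a a' * b := hc.eq
      calc ww b a a' = b⁻¹ * (b * ww b a a') := by group
        _ = b⁻¹ * ww b a a' * b := by rw [this]; group
    have hbar := d.bar_mem ha
    have hbar' := d.bar_mem ha'
    have w1 := d.ww_mem ha ha'
    have w2 := d.ww_mem ha' ha
    have k1 : a * (ww b a a')⁻¹ = (ww b a a')⁻¹ * a :=
      (d.D_comm_A ((DD A b).inv_mem w1) ha).symm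
    have k2 : a' * (ww b a' a)⁻¹ = (ww b a' a)⁻¹ * a' :=
      (d.D_comm_A ((DD A b).inv_mem w2) ha').symm
    have f1 : cc b a * cc b a' = (ww b a a')⁻¹ * (a * a') * ((b⁻¹ * a * b)⁻¹ * (b⁻¹ * a' * b)⁻¹) := by
      calc cc b a * cc b a' = (a * (ww b a a')⁻¹) * a' * ((b⁻¹ * a * b)⁻¹ * (b⁻¹ * a' * b)⁻¹) := by
            unfold cc ww; group
        _ = _ := by rw [k1]; group
    have f2 : cc b a' * cc b a = (ww b a' a)⁻¹ * (a' * a) * ((b⁻¹ * a' * b)⁻¹ * (b⁻¹ * a * b)⁻¹) := by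
      calc cc b a' * cc b a = (a' * (ww b a' a)⁻¹) * a * ((b⁻¹ * a' * b)⁻¹ * (b⁻¹ * a * b)⁻¹) := by
            unfold cc ww; group
        _ = _ := by rw [k2]; group
    rw [f1, f2, hw, d.Acomm a ha a' ha',
      d.A1comm ((A1 A b).inv_mem hbar) ((A1 A b).inv_mem hbar')]

theorem cc_comm_D {a k : S} (ha : a ∈ A) (hk : k ∈ DD A b) : k * cc b a = cc b a * k := by
  have c1 := d.D_comm_A hk ha
  have c2 := d.D_comm_A1 hk ((A1 A b).inv_mem (d.bar_mem ha))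
  rw [cc_eq]
  calc k * (a * (b⁻¹ * a * b)⁻¹) = (k * a) * (b⁻¹ * a * b)⁻¹ := (mul_assoc _ _ _).symm
    _ = a * (k * (b⁻¹ * a * b)⁻¹) := by rw [c1]; exact mul_assoc _ _ _
    _ = a * (b⁻¹ * a * b)⁻¹ * k := by rw [c2]; exact (mul_assoc _ _ _).symm

theorem cc_mul {a a' : S} (ha : a ∈ A) (ha' : a' ∈ A) :
    ∃ k ∈ DD A b, cc b (a * a') = k * cc b a * cc b a' := by
  have hy : (b⁻¹ * a' * b)⁻¹ ∈ A1 A b := (A1 A b).inv_mem (d.bar_mem ha')
  have hk := d.kap_mem ha hy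
  refine ⟨_, hk, ?_⟩
  have c := d.D_comm_A hk ha'
  have hc := d.cc_comm ha ha'
  rw [mul_assoc, hc]
  calc cc b (a * a') = (a * a') * (b⁻¹ * a' * b)⁻¹ * a⁻¹ * (b⁻¹ * a' * b)⁻¹⁻¹ * (b⁻¹ * a' * b)⁻¹
        * (a * (b⁻¹ * a * b)⁻¹) := by unfold cc; group
    _ = (a' * a) * (b⁻¹ * a' * b)⁻¹ * a⁻¹ * (b⁻¹ * a' * b)⁻¹⁻¹ * (b⁻¹ * a' * b)⁻¹
        * (a * (b⁻¹ * a * b)⁻¹) := by rw [d.Acomm a ha a' ha']
    _ = (a' * (a * (b⁻¹ * a' * b)⁻¹ * a⁻¹ * (b⁻¹ * a' * b)⁻¹⁻¹)) * (b⁻¹ * a' * b)⁻¹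
        * (a * (b⁻¹ * a * b)⁻¹) := by group
    _ = ((a * (b⁻¹ * a' * b)⁻¹ * a⁻¹ * (b⁻¹ * a' * b)⁻¹⁻¹) * a') * (b⁻¹ * a' * b)⁻¹
        * (a * (b⁻¹ * a * b)⁻¹) := by rw [c]
    _ = _ := by rw [cc_eq, cc_eq]; group

omit d in
theorem cc_one : cc b 1 = 1 := by unfold cc; group

theorem cc_mul' {a a' : S} (ha : a ∈ A) (ha' : a' ∈ A) :
    ∃ k ∈ DD A b, cc b (a * a') = cc b a * cc b a' * k := by
  obtain ⟨k, hk, e⟩ := d.cc_mul ha ha'
  refine ⟨k, hk, ?_⟩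
  rw [e, d.cc_comm_D ha hk, mul_assoc, d.cc_comm_D ha' hk, mul_assoc]

theorem cc_inv {a : S} (ha : a ∈ A) : ∃ k ∈ DD A b, (cc b a)⁻¹ = k * cc b a⁻¹ := by
  obtain ⟨k, hk, e⟩ := d.cc_mul ha (A.inv_mem ha)
  rw [mul_inv_cancel, cc_one] at e
  refine ⟨k, hk, ?_⟩
  have c := d.cc_comm_D ha hk
  rw [c, mul_assoc] at e
  exact inv_eq_of_mul_eq_one_right e.symm

def TT : Subgroup S where
  carrier := {x | ∃ k ∈ DD A b, ∃ a ∈ A, x = k * cc b a}
  one_mem' := ⟨1, one_mem _, 1, one_mem _, by simp [cc_one]⟩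
  mul_mem' := by
    rintro _ _ ⟨k, hk, a, ha, rfl⟩ ⟨k', hk', a', ha', rfl⟩
    obtain ⟨k'', hk'', e⟩ := d.cc_mul ha ha'
    refine ⟨k * k' * k''⁻¹, mul_mem (mul_mem hk hk') (inv_mem hk''), a * a', mul_mem ha ha', ?_⟩
    rw [e]
    have c := d.cc_comm_D ha hk'
    calc k * cc b a * (k' * cc b a') = k * (cc b a * k') * cc b a' := by group
      _ = k * (k' * cc b a) * cc b a' := by rw [c]
      _ = _ := by group
  inv_mem' := by
    rintro _ ⟨k, hk, a, ha, rfl⟩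
    obtain ⟨k', hk', e⟩ := d.cc_inv ha
    refine ⟨k' * k⁻¹, mul_mem hk' (inv_mem hk), a⁻¹, inv_mem ha, ?_⟩
    have c := d.cc_comm_D (A.inv_mem ha) ((DD A b).inv_mem hk)
    rw [mul_inv_rev, e, mul_assoc, ← c, mul_assoc]

theorem cc_mem_CC {a : S} (ha : a ∈ A) : cc b a ∈ CC A b :=
  Subgroup.subset_closure ⟨a, ha, rfl⟩

theorem cc_mem_Astar {a : S} (ha : a ∈ A) : cc b a ∈ Astar A b :=
  (le_sup_right : CC A b ≤ Astar A b) (d.cc_mem_CC ha)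

theorem D_le_Astar : DD A b ≤ Astar A b := le_sup_left

theorem mem_Astar {x : S} : x ∈ Astar A b ↔ ∃ k ∈ DD A b, ∃ a ∈ A, x = k * cc b a := by
  constructor
  · intro hx
    have hle : Astar A b ≤ d.TT := by
      apply sup_le
      · intro k hk
        exact ⟨k, hk, 1, one_mem _, by simp [cc_one]⟩
      · rw [Subgroup.closure_le]
        rintro _ ⟨a, ha, rfl⟩
        exact ⟨1, one_mem _, a, ha, by simp [cc]⟩
    exact hle hx
  · rintro ⟨k, hk, a, ha, rfl⟩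
    exact mul_mem (d.D_le_Astar hk) (d.cc_mem_Astar ha)

theorem Astar_comm {x y : S} (hx : x ∈ Astar A b) (hy : y ∈ Astar A b) : x * y = y * x := by
  obtain ⟨k, hk, a, ha, rfl⟩ := d.mem_Astar.mp hx
  obtain ⟨k', hk', a', ha', rfl⟩ := d.mem_Astar.mp hy
  have c1 : Commute k k' := d.Acomm k hk.1 k' hk'.1
  have c2 : Commute k (cc b a') := d.cc_comm_D ha' hk
  have c3 : Commute (cc b a) k' := (d.cc_comm_D ha hk').symm
  have c4 : Commute (cc b a) (cc b a') := d.cc_comm ha ha'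
  exact ((c1.mul_right c2).mul_left (c3.mul_right c4)).eq

theorem AB_le_D : A ⊓ B ≤ DD A b := by
  intro x hx
  refine ⟨hx.1, ?_⟩
  change x ∈ A1 A b
  rw [mem_A1]
  have := A.mul_mem (d.BA b d.hb x hx.2) hx.1
  have e : b * x * b⁻¹ * x⁻¹ * x = b * x * b⁻¹ := by group
  rwa [e] at this

theorem Astar_le_N : Astar A b ≤ Subgroup.normalizer (A : Set S) := by
  intro x hx
  obtain ⟨k, hk, a, ha, rfl⟩ := d.mem_Astar.mp hx
  rw [cc_eq]
  exact mul_mem (Subgroup.le_normalizer hk.1)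
    (mul_mem (Subgroup.le_normalizer ha) (inv_mem (d.A1_le_N (d.bar_mem ha))))

theorem comm_A_cc {a a' : S} (ha : a ∈ A) (ha' : a' ∈ A) :
    a' * cc b a * a'⁻¹ * (cc b a)⁻¹ ∈ DD A b := by
  have hy : (b⁻¹ * a * b)⁻¹ ∈ A1 A b := (A1 A b).inv_mem (d.bar_mem ha)
  have hk := d.kap_mem ha' hy
  have c := d.D_comm_A hk ha
  have e : a' * cc b a * a'⁻¹ * (cc b a)⁻¹ =
      a' * (b⁻¹ * a * b)⁻¹ * a'⁻¹ * (b⁻¹ * a * b)⁻¹⁻¹ := by
    calc a' * cc b a * a'⁻¹ * (cc b a)⁻¹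
        = (a' * a) * (b⁻¹ * a * b)⁻¹ * a'⁻¹ * (b⁻¹ * a * b)⁻¹⁻¹ * a⁻¹ := by rw [cc_eq]; group
      _ = (a * a') * (b⁻¹ * a * b)⁻¹ * a'⁻¹ * (b⁻¹ * a * b)⁻¹⁻¹ * a⁻¹ := by
          rw [d.Acomm a' ha' a ha]
      _ = (a * (a' * (b⁻¹ * a * b)⁻¹ * a'⁻¹ * (b⁻¹ * a * b)⁻¹⁻¹)) * a⁻¹ := by group
      _ = ((a' * (b⁻¹ * a * b)⁻¹ * a'⁻¹ * (b⁻¹ * a * b)⁻¹⁻¹) * a) * a⁻¹ := by rw [c]
      _ = _ := by group
  rw [e]; exact hk

theorem A_le_N_Astar : A ≤ Subgroup.normalizer (Astar A b : Set S) := by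
  rw [Subgroup.le_normalizer_iff]
  intro a' ha' x hx
  obtain ⟨k, hk, a, ha, rfl⟩ := d.mem_Astar.mp hx
  have h1 := d.comm_A_cc ha ha'
  have c := d.D_comm_A hk ha'
  have e : a' * (k * cc b a) * a'⁻¹ = k * (a' * cc b a * a'⁻¹ * (cc b a)⁻¹) * cc b a := by
    calc a' * (k * cc b a) * a'⁻¹ = (a' * k) * cc b a * a'⁻¹ := by group
      _ = (k * a') * cc b a * a'⁻¹ := by rw [c]
      _ = _ := by group
  rw [e]
  exact mul_mem (mul_mem (d.D_le_Astar hk) (d.D_le_Astar h1)) (d.cc_mem_Astar ha)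

theorem b_mem_N_Astar [Finite S] : b ∈ Subgroup.normalizer (Astar A b : Set S) := by
  have : b⁻¹ ∈ Subgroup.normalizer (Astar A b : Set S) := by
    apply mem_normalizer_of_conj
    intro x hx
    obtain ⟨k, hk, a, ha, rfl⟩ := d.mem_Astar.mp hx
    have ht : (cc b a)⁻¹ * b⁻¹ * (cc b a)⁻¹⁻¹ * b⁻¹⁻¹ ∈ DD A b :=
      d.BB_D (B.inv_mem (d.cc_mem_B ha)) (B.inv_mem d.hb)
    have e : b⁻¹ * (k * cc b a) * b⁻¹⁻¹ =
        (cc b k)⁻¹ * k * (cc b a * ((cc b a)⁻¹ * b⁻¹ * (cc b a)⁻¹⁻¹ * b⁻¹⁻¹)) := by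
      have : (cc b k)⁻¹ * k = b⁻¹ * k * b := by unfold cc; group
      rw [this]; group
    rw [e]
    exact mul_mem (mul_mem (inv_mem (d.cc_mem_Astar hk.1)) (d.D_le_Astar hk))
      (mul_mem (d.cc_mem_Astar ha) (d.D_le_Astar ht))
  simpa using inv_mem this

theorem exists_cc_not_mem [Finite S] : ∃ a ∈ A, cc b a ∉ A := by
  by_contra hcon
  push Not at hcon
  apply d.hbA
  have : b⁻¹ ∈ Subgroup.normalizer (A : Set S) := by
    apply mem_normalizer_of_conj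
    intro a ha
    have := A.mul_mem (A.inv_mem (hcon a ha)) ha
    have e : (cc b a)⁻¹ * a = b⁻¹ * a * b⁻¹⁻¹ := by unfold cc; group
    rwa [e] at this
  simpa using inv_mem this

theorem pow_eq_one {e : ℕ} (he : Odd e) (hA : ∀ a ∈ A, a ^ e = 1) {x : S} (hx : x ∈ Astar A b) :
    x ^ e = 1 := by
  obtain ⟨k, hk, a, ha, rfl⟩ := d.mem_Astar.mp hx
  have c : Commute k (cc b a) := d.cc_comm_D ha hk
  rw [c.mul_pow, hA k hk.1, one_mul, cc_eq]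
  have hy : (b⁻¹ * a * b)⁻¹ ∈ A1 A b := (A1 A b).inv_mem (d.bar_mem ha)
  have hκ := d.kap_mem (A.inv_mem ha) hy
  rw [inv_inv] at hκ
  have c1 := d.D_comm_A hκ ha
  have c2 := d.D_comm_A1 hκ hy
  have hk' : (b⁻¹ * a * b)⁻¹ * a =
      a * (b⁻¹ * a * b)⁻¹ * (a⁻¹ * (b⁻¹ * a * b)⁻¹ * a * (b⁻¹ * a * b)⁻¹⁻¹) := by
    rw [mul_assoc a, ← c2]; group
  rw [mul_pow_of_central hk' c1 c2, hA a ha, one_mul]
  have hy1 : ((b⁻¹ * a * b)⁻¹) ^ e = 1 := by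
    have : (b⁻¹ * a * b)⁻¹ = b⁻¹ * a⁻¹ * b⁻¹⁻¹ := by group
    rw [this, conj_pow, hA _ (A.inv_mem ha)]; group
  rw [hy1, one_mul]
  obtain ⟨j, hj⟩ := he
  have hch : e.choose 2 = e * j := by
    rw [Nat.choose_two_right, hj]
    have : (2 * j + 1) * (2 * j + 1 - 1) = 2 * ((2 * j + 1) * j) := by
      rw [Nat.add_sub_cancel]; ring
    rw [this, Nat.mul_div_cancel_left _ (by norm_num)]
  rw [hch, pow_mul, hA _ hκ.1, one_pow]

theorem card_Astar [Finite S] : Nat.card (Astar A b) = Nat.card A := by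
  classical
  let D' : Subgroup (Astar A b) := (DD A b).subgroupOf (Astar A b)
  have hD'n : D'.Normal := by
    constructor
    intro n hn g
    have : g * n * g⁻¹ = n := by
      apply Subtype.ext
      have := d.Astar_comm g.2 n.2
      change (g : S) * n * (g : S)⁻¹ = n
      rw [this]; group
    rw [this]; exact hn
  let φ : A →* (Astar A b) ⧸ D' := MonoidHom.mk'
    (fun a => QuotientGroup.mk (⟨cc b a, d.cc_mem_Astar a.2⟩ : Astar A b))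
    (by
      intro a a'
      rw [← QuotientGroup.mk_mul, QuotientGroup.eq]
      obtain ⟨k, hk, e⟩ := d.cc_mul' a.2 a'.2
      change (cc b (a * a'))⁻¹ * (cc b a * cc b a') ∈ DD A b
      rw [e]
      have : (cc b a * cc b a' * k)⁻¹ * (cc b a * cc b a') = k⁻¹ := by group
      rw [this]; exact inv_mem hk)
  have hsurj : Function.Surjective φ := by
    intro q
    induction q using QuotientGroup.induction_on with
    | H x =>
      obtain ⟨k, hk, a, ha, hx⟩ := d.mem_Astar.mp x.2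
      refine ⟨⟨a, ha⟩, ?_⟩
      change QuotientGroup.mk (⟨cc b a, d.cc_mem_Astar ha⟩ : Astar A b) = QuotientGroup.mk x
      rw [QuotientGroup.eq]
      change (cc b a)⁻¹ * (x : S) ∈ DD A b
      rw [hx, d.cc_comm_D ha hk]
      have : (cc b a)⁻¹ * (cc b a * k) = k := by group
      rw [this]; exact hk
  have h1 := Subgroup.card_mul_index φ.ker
  have h2 : φ.ker.index = D'.index := by
    rw [Subgroup.index_ker, MonoidHom.range_eq_top.mpr hsurj, Subgroup.card_top]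
    rfl
  have h3 := Subgroup.card_mul_index D'
  have hker : ∀ a : A, a ∈ φ.ker ↔ b⁻¹ * (a : S) * b ∈ A := by
    intro a
    rw [MonoidHom.mem_ker]
    change QuotientGroup.mk (⟨cc b a, d.cc_mem_Astar a.2⟩ : Astar A b) = 1 ↔ _
    rw [QuotientGroup.eq_one_iff]
    change cc b a ∈ DD A b ↔ _
    constructor
    · intro h
      have := A.mul_mem (A.inv_mem h.1) a.2
      have e : (cc b (a : S))⁻¹ * a = b⁻¹ * a * b := by unfold cc; group
      rwa [e] at this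
    · intro h
      apply d.AB_le_D
      refine ⟨?_, d.cc_mem_B a.2⟩
      rw [SetLike.mem_coe, cc_eq]
      exact A.mul_mem a.2 (A.inv_mem h)
  have h4 : Nat.card φ.ker = Nat.card D' := by
    apply Nat.card_congr
    refine Equiv.ofBijective (fun a => (⟨⟨b⁻¹ * (a : S) * b,
      d.D_le_Astar ⟨(hker a.1).mp a.2, d.bar_mem a.1.2⟩⟩, ⟨(hker a.1).mp a.2, d.bar_mem a.1.2⟩⟩ : D'))
      ⟨?_, ?_⟩
    · intro a a' h
      have h' : b⁻¹ * (a : S) * b = b⁻¹ * (a' : S) * b :=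
        congrArg (fun z : D' => ((z : Astar A b) : S)) h
      apply Subtype.ext
      apply Subtype.ext
      exact mul_left_cancel (mul_right_cancel h')
    · intro k
      have hk : ((k : Astar A b) : S) ∈ DD A b := k.2
      have hkA : b * ((k : Astar A b) : S) * b⁻¹ ∈ A := mem_A1.mp hk.2
      have e : b⁻¹ * (b * ((k : Astar A b) : S) * b⁻¹) * b = ((k : Astar A b) : S) := by group
      refine ⟨⟨⟨_, hkA⟩, (hker _).mpr (by rw [e]; exact hk.1)⟩, ?_⟩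
      apply Subtype.ext
      apply Subtype.ext
      exact e
  rw [← h1, ← h3, h2, h4]

end Data

end Cfsg.Agent.Lib.Helper57.Repl2
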