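import Mathlib
import Cfsg.Agent.Lib.Helper57.FC10
import Cfsg.Agent.Lib.Helper15.ZJFactBridge

set_option autoImplicit false

/-! `Z(J(D))` controls strong fusion when `G` is `p`-stable and the `p`-locals are `p`-constrained. -/

namespace Cfsg.Agent.Lib.Helper57.FC

open Cfsg Cfsg.Agent.Lib.Helper39

universe u

variable {p : ℕ}

theorem PS.subgroup {G : Type*} [Group G] (h : ZJ.PS p G) (H : Subgroup G) : ZJ.PS p ↥H := by
  intro U hU g hg hq
  have hg' : (g : G) ∈ Subgroup.normalizer ((U.map H.subtype : Subgroup G) : Set G) :=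
    Subgroup.le_normalizer_map H.subtype ⟨g, hg, rfl⟩
  have hz : (Subgroup.zpowers g).map H.subtype = Subgroup.zpowers (g : G) := by
    rw [MonoidHom.map_zpowers]; rfl
  have hq' : ⁅⁅U.map H.subtype, Subgroup.zpowers (g : G)⁆, Subgroup.zpowers (g : G)⁆ = ⊥ := by
    rw [← hz, ← Subgroup.map_commutator, ← Subgroup.map_commutator, hq, Subgroup.map_bot]
  obtain ⟨K, hgK, hKN, hpow⟩ := h (U.map H.subtype) (hU.map _) g hg' hq'
  refine ⟨K.subgroupOf H, hgK, ?_, ?_⟩
  · intro x hx
    have hx' : (x : G) ∈ Subgroup.normalizer (K : Set G) :=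
      hKN (Subgroup.le_normalizer_map H.subtype ⟨x, hx, rfl⟩)
    exact Subgroup.le_normalizer_comap H.subtype hx'
  · intro k hk
    obtain ⟨n, hn⟩ := hpow k hk
    refine ⟨n, ?_⟩
    rw [Subgroup.mem_centralizer_iff] at hn ⊢
    intro u hu
    apply Subtype.ext
    have := hn u ⟨u, hu, rfl⟩
    simpa using this

variable [Fact p.Prime]

theorem isNormalizerPStable_subgroup {G : Type*} [Group G] (h : IsNormalizerPStable p G)
    (H : Subgroup G) : IsNormalizerPStable p ↥H :=
  Quad.isNormalizerPStable_of_ps (PS.subgroup (ZJ.PS.of_isNormalizerPStable h) H)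

/-- control of strong fusion from a factorization `G = O N_G(w)`, `O` a normal `p'`-subgroup. -/
theorem ctl_of_factorization {G : Type*} [Group G] [Finite G] (S : Sylow p G) (O : Subgroup G)
    [O.Normal] (hO : (Nat.card O).Coprime p) {ι : Type*} (w : ι → Subgroup G)
    (hwS : ∀ i, w i ≤ (S : Subgroup G))
    (hw : ∀ i, (S : Subgroup G) ≤ Subgroup.normalizer ((w i : Subgroup G) : Set G))
    (i₀ : ι) (hfac : O ⊔ Subgroup.normalizer ((w i₀ : Subgroup G) : Set G) = ⊤) :
    Ctl (Set.range fun i => Subgroup.normalizer ((w i : Subgroup G) : Set G)) (S : Subgroup G) := by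
  apply ctl_of_quotient_pprime S O hO w hwS hw
  intro B hB g hgB
  refine Gen.base ⟨i₀, rfl⟩ ?_ hB hgB
  obtain ⟨x, rfl⟩ := QuotientGroup.mk'_surjective O g
  have hx : x ∈ O ⊔ Subgroup.normalizer ((w i₀ : Subgroup G) : Set G) := by rw [hfac]; trivial
  obtain ⟨o, ho, n, hn, rfl⟩ := Subgroup.mem_sup_of_normal_left.mp hx
  have ho1 : QuotientGroup.mk' O o = 1 := (QuotientGroup.eq_one_iff o).mpr ho
  rw [map_mul, ho1, one_mul]
  exact Subgroup.le_normalizer_map _ ⟨n, hn, rfl⟩

/-- **S3080, general form.** -/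
theorem csfo_of_constrained_locals {G : Type u} [Group G] [Finite G] (hp : p ≠ 2) {e : ℕ}
    (he : e = 0 ∨ e = p) (P : Sylow p G) (D : Subgroup G)
    (hD : IsStronglyClosed D (P : Subgroup G)) (hst : IsNormalizerPStable p G)
    (hc : ∀ U : Subgroup G, U ≤ (P : Subgroup G) → U ≠ ⊥ →
      IsPConstrained p ↥(Subgroup.normalizer (U : Set G)))
    (A : Set G) (hA : A ⊆ (P : Subgroup G)) :
    ControlsStrongFusionOf (Subgroup.normalizer ((inducedFunctor (WZ e) D : Subgroup G) : Set G))
      (P : Subgroup G) A := by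
  have he' : e = 0 ∨ Odd e := by
    rcases he with h | h
    · exact Or.inl h
    · right; rw [h]; exact (Fact.out : p.Prime).odd_of_ne_two hp
  by_cases hDbot : D = ⊥
  · refine ⟨hA, fun g _ => ⟨g, ?_, fun _ _ => rfl⟩⟩
    have h1 : inducedFunctor (WZ e) D = ⊥ := by
      have := Cfsg.Agent.Lib.Helper40.ind_le (W := WZ e) D
      rw [hDbot] at this ⊢
      exact le_bot_iff.mp this
    rw [h1, Subgroup.normalizer_eq_top_iff.mpr inferInstance]
    trivial
  set 𝒟 : Set G := {x | ∃ g : G, g * x * g⁻¹ ∈ D} with h𝒟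
  have hN : NSet p 𝒟 := nset_of_stronglyClosed P hD
  have hδ : Deco p (δof 𝒟) := hN.deco
  have hδP : δof 𝒟 (P : Subgroup G) = D := δof_of_stronglyClosed P hD
  have h𝓦 : ∀ W ∈ ({WZ e} : Set (∀ (Q : Type u) [Group Q], Subgroup Q)),
      IsCharPFunctor.{u} p W := by
    rintro W rfl; exact WZ_isCharPFunctor he
  have hPδ : (P : Subgroup G) ≤
      Subgroup.normalizer ((δof 𝒟 (P : Subgroup G) : Subgroup G) : Set G) := by
    intro s hs
    rw [mem_normalizer_iff_cj, ← hδ.conj, cj_self_of_mem hs]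
  have key : Ctl (Hs (fam {WZ e} (δof 𝒟)) (P : Subgroup G)) (P : Subgroup G) := by
    apply local_to_global P (fam {WZ e} (δof 𝒟)) (fun i T _ => fam_le hδ i T)
      (fun i T hT => normalizer_le_fam h𝓦 hδ i (P.2.to_le hT))
    · intro i V hVS _
      apply fam_ne_bot h𝓦 hδ i (P.2.to_le inf_le_left)
      rw [hδ.inf _ (P : Subgroup G) inf_le_left P.2]
      obtain ⟨z, hz, hz1, hzc⟩ := exists_central P.2 (hδ.le _) (by rw [hδP]; exact hDbot) hPδ
      intro hbot
      apply hz1
      rw [← Subgroup.mem_bot, ← hbot]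
      refine ⟨⟨hδ.le _ hz, ?_⟩, hz⟩
      apply mem_normalizer_iff_cj.mpr
      apply cj_eq_of_le
      rintro _ ⟨v, hv, rfl⟩
      have h1 := hzc v (hVS hv)
      have h2 : z * v * z⁻¹ = v := by rw [← h1]; group
      change z * v * z⁻¹ ∈ V
      rw [h2]; exact hv
    · intro V hVS hV hfn
      set K := Subgroup.normalizer (V : Set G) with hK
      set T := (P : Subgroup G) ⊓ K with hT
      have hTK : T ≤ K := inf_le_right
      have hTp : IsPGroup p T := P.2.to_le inf_le_left
      apply ctlIn_of_subgroup h𝓦 hδ K T hTK hTp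
      have hpg : IsPGroup p (T.subgroupOf K) := hTp.comap_subtype
      set PK : Sylow p ↥K := hpg.toSylow hfn with hPK
      have hPKc : (PK : Subgroup ↥K) = T.subgroupOf K := rfl
      have hNK : NSet p (K.subtype ⁻¹' 𝒟) := hN.sub K
      have hδK : Deco p (δof (K.subtype ⁻¹' 𝒟)) := hNK.deco
      have hsc := hNK.stronglyClosed PK
      have hfac := Cfsg.Agent.Lib.Helper15.ZJ.factorization_of_constrained_nstable hp he'
        (hc V hVS hV) (isNormalizerPStable_subgroup hst K) PK hsc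
      rw [δsub_δof, ← hPKc]
      have := ctl_of_factorization PK (pPrimeCore p ↥K)
        (Cfsg.Agent.Lib.Helper56.pPrimeCore_coprime p)
        (fun W => fam {WZ e} (δof (K.subtype ⁻¹' 𝒟)) W (PK : Subgroup ↥K))
        (fun i => fam_le hδK i _)
        (fun i => le_trans Subgroup.le_normalizer (normalizer_le_fam h𝓦 hδK i PK.2))
        ⟨WZ e, rfl⟩ (by
          show _ ⊔ Subgroup.normalizer ((inducedFunctor (WZ e) _ : Subgroup ↥K) : Set ↥K) = ⊤
          rw [ind_WZ_eq_ZE]
          exact hfac)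
      exact this
  unfold Hs fam at key
  rw [hδP] at key
  refine csfo_of_ctl (fun W' => ?_) key A hA
  obtain ⟨W', hW'⟩ := W'
  rw [Set.mem_singleton_iff] at hW'
  subst hW'
  rfl

end Cfsg.Agent.Lib.Helper57.FC
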