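import Mathlib
import Cfsg.Agent.Lib.Helper57.FC2
import Cfsg.Agent.Lib.Helper39.PCoreOf
import Cfsg.Agent.Lib.Helper39.WellPlaced

set_option autoImplicit false

/-! Local-to-global principle using only the local subgroups `N(H)` with `Z(S) ≤ H ≤ S`
(Alperin-type double induction on centric subgroups + Frattini argument). -/

namespace Cfsg.Agent.Lib.Helper57.FC

open Cfsg.Agent.Lib.Helper39

variable {G : Type*} [Group G]

/-- every conjugate of `T` inside `S` contains its centralizer in `S` -/
def FCentric (S T : Subgroup G) : Prop :=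
  ∀ g : G, cj g T ≤ S → S ⊓ Subgroup.centralizer ((cj g T : Subgroup G) : Set G) ≤ cj g T

theorem FCentric.cj {S T : Subgroup G} (h : FCentric S T) (k : G) : FCentric S (cj k T) := by
  intro g hg
  rw [← cj_mul] at hg ⊢
  exact h _ hg

theorem FCentric.mono {S T T' : Subgroup G} (h : FCentric S T) (hT : T ≤ T') : FCentric S T' := by
  intro g hg
  calc S ⊓ Subgroup.centralizer ((Helper39.cj g T' : Subgroup G) : Set G)
      ≤ S ⊓ Subgroup.centralizer ((Helper39.cj g T : Subgroup G) : Set G) :=
        inf_le_inf_left _ (Subgroup.centralizer_le (cj_mono g hT))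
    _ ≤ Helper39.cj g T := h g ((cj_mono g hT).trans hg)
    _ ≤ Helper39.cj g T' := cj_mono g hT

theorem FCentric.center_le {S T : Subgroup G} (h : FCentric S T) (hT : T ≤ S) :
    S ⊓ Subgroup.centralizer (S : Set G) ≤ T ⊓ Subgroup.centralizer (T : Set G) := by
  have h1 := h 1 (by rw [cj_one]; exact hT)
  rw [cj_one] at h1
  have h2 : Subgroup.centralizer (S : Set G) ≤ Subgroup.centralizer (T : Set G) :=
    Subgroup.centralizer_le hT
  exact le_inf ((inf_le_inf_left _ h2).trans h1) (inf_le_right.trans h2)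

/-- a fully normalized subgroup containing its centralizer in `S` is `FCentric` -/
theorem fcentric_of_tame [Finite G] {p : ℕ} [Fact p.Prime] (S : Sylow p G) {U : Subgroup G}
    (htame : ¬ p ∣ ((S : Subgroup G) ⊓ Subgroup.normalizer (U : Set G)).relIndex
        (Subgroup.normalizer (U : Set G)))
    (hc : (S : Subgroup G) ⊓ Subgroup.centralizer (U : Set G) ≤ U) :
    FCentric (S : Subgroup G) U := by
  intro g hg
  set C' := cj g⁻¹ ((S : Subgroup G) ⊓ Subgroup.centralizer ((cj g U : Subgroup G) : Set G)) with hC'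
  have h1 : C' ≤ Subgroup.centralizer (U : Set G) := by
    rw [hC', cj_inf, cj_centralizer, cj_inv_cj]
    exact inf_le_right
  have h2 : IsPGroup p C' := isPGroup_cj _ (S.2.to_le inf_le_left)
  obtain ⟨n, hn, hnC⟩ := exists_conj_le_of_relIndex inf_le_right (S.2.to_le inf_le_left) htame
    (h1.trans (Subgroup.centralizer_le_normalizer _)) h2
  have h3 : cj n C' ≤ Subgroup.centralizer (U : Set G) := by
    have := cj_mono n h1
    rwa [cj_centralizer, cj_eq_of_mem_normalizer hn] at this
  have h4 : cj n C' ≤ U := (le_inf (hnC.trans inf_le_left) h3).trans hc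
  have h5 : C' ≤ U := by
    have := cj_mono n⁻¹ h4
    rwa [cj_inv_cj, cj_eq_of_mem_normalizer (Subgroup.inv_mem _ hn)] at this
  have h6 := cj_mono g h5
  rwa [hC', cj_cj_inv] at h6

/-- Frattini: modulo `C(U)` an element of `N(U)`, `U` fully normalized, normalizes `C_S(U)`. -/
theorem exists_centralizer_mul [Finite G] {p : ℕ} [Fact p.Prime] (S : Sylow p G) {U : Subgroup G}
    (htame : ¬ p ∣ ((S : Subgroup G) ⊓ Subgroup.normalizer (U : Set G)).relIndex
        (Subgroup.normalizer (U : Set G))) {y : G} (hy : y ∈ Subgroup.normalizer (U : Set G)) :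
    ∃ c ∈ Subgroup.centralizer (U : Set G),
      cj (c * y) ((S : Subgroup G) ⊓ Subgroup.centralizer (U : Set G)) =
        (S : Subgroup G) ⊓ Subgroup.centralizer (U : Set G) := by
  have hidx := inf_normal_sylow (inf_le_right) (S.2.to_le inf_le_left) htame
    (Subgroup.centralizer_le_normalizer (U : Set G)) (normalizer_le_normalizer_centralizer U)
  have e1 : (S : Subgroup G) ⊓ Subgroup.normalizer (U : Set G) ⊓ Subgroup.centralizer (U : Set G) =
      (S : Subgroup G) ⊓ Subgroup.centralizer (U : Set G) := by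
    rw [inf_assoc, inf_of_le_right (Subgroup.centralizer_le_normalizer (U : Set G))]
  rw [e1] at hidx
  have h1 : cj y ((S : Subgroup G) ⊓ Subgroup.centralizer (U : Set G)) ≤
      Subgroup.centralizer (U : Set G) := by
    rw [cj_inf, cj_centralizer, cj_eq_of_mem_normalizer hy]
    exact inf_le_right
  obtain ⟨c, hc, hcy⟩ := exists_conj_le_of_relIndex inf_le_right (S.2.to_le inf_le_left) hidx h1
    (isPGroup_cj y (S.2.to_le inf_le_left))
  refine ⟨c, hc, ?_⟩
  rw [cj_mul]
  rw [← cj_mul] at hcy ⊢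
  exact cj_eq_of_le hcy

theorem centric_skeleton [Finite G] {p : ℕ} [Fact p.Prime] (S : Sylow p G)
    (W : Subgroup G → Subgroup G)
    (hWle : ∀ T, T ≤ (S : Subgroup G) → W T ≤ T)
    (hWZ : ∀ T, T ≤ (S : Subgroup G) → T ⊓ Subgroup.centralizer (T : Set G) ≤ W T)
    (hWconj : ∀ T, T ≤ (S : Subgroup G) → ∀ g : G, W (cj g T) = cj g (W T))
    (R : Subgroup G → G → Prop)
    (hmono : ∀ (B B' : Subgroup G) (g : G), B' ≤ B → R B g → R B' g)
    (htrans : ∀ (B : Subgroup G) (g h : G), R B g → R (cj g B) h → R B (h * g))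
    (hsymm : ∀ (B : Subgroup G) (g : G), R B g → R (cj g B) g⁻¹)
    (hext : ∀ (B : Subgroup G) (g g' : G), R B g → (∀ b ∈ B, g' * b * g'⁻¹ = g * b * g⁻¹) → R B g')
    (hbase : ∀ x ∈ Subgroup.normalizer ((W (S : Subgroup G) : Subgroup G) : Set G),
      ∀ X : Subgroup G, X ≤ (S : Subgroup G) → cj x X ≤ (S : Subgroup G) → R X x)
    (hstep : ∀ H : Subgroup G,
      (S : Subgroup G) ⊓ Subgroup.centralizer ((S : Subgroup G) : Set G) ≤ H →
      H ≤ (S : Subgroup G) →
      ¬ p ∣ ((S : Subgroup G) ⊓ Subgroup.normalizer (H : Set G)).relIndex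
        (Subgroup.normalizer (H : Set G)) →
      (∀ x ∈ Subgroup.normalizer
          ((W ((S : Subgroup G) ⊓ Subgroup.normalizer (H : Set G)) : Subgroup G) : Set G),
        ∀ X : Subgroup G, X ≤ (S : Subgroup G) ⊓ Subgroup.normalizer (H : Set G) →
          cj x X ≤ (S : Subgroup G) ⊓ Subgroup.normalizer (H : Set G) → R X x) →
      ∀ y ∈ Subgroup.normalizer (H : Set G),
        ∀ X : Subgroup G, X ≤ (S : Subgroup G) ⊓ Subgroup.normalizer (H : Set G) →
          cj y X ≤ (S : Subgroup G) ⊓ Subgroup.normalizer (H : Set G) → R X y) :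
    ∀ B : Subgroup G, B ≤ (S : Subgroup G) → ∀ g : G, cj g B ≤ (S : Subgroup G) → R B g := by
  have hconj_of : ∀ (X : Subgroup G) (x k : G), R X k → R (cj k X) (k * x * k⁻¹) →
      R (cj x X) k → R X x := by
    intro X x k h1 h2 h3
    have e1 : cj (k * x * k⁻¹) (cj k X) = cj k (cj x X) := by
      rw [← cj_mul, ← cj_mul]; congr 1; group
    have h4 : R (cj (k * x * k⁻¹) (cj k X)) k⁻¹ := by rw [e1]; exact hsymm _ _ h3
    have h5 := htrans _ _ _ (htrans _ _ _ h1 h2) (by rw [cj_mul]; exact h4)
    have e2 : k⁻¹ * (k * x * k⁻¹ * k) = x := by group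
    rwa [e2] at h5
  have hnorm : ∀ T, T ≤ (S : Subgroup G) →
      Subgroup.normalizer (T : Set G) ≤ Subgroup.normalizer ((W T : Subgroup G) : Set G) := by
    intro T hT x hx
    rw [mem_normalizer_iff_cj] at hx ⊢
    rw [← hWconj T hT, hx]
  -- the inner induction
  have IC : ∀ n : ℕ, (∀ B' : Subgroup G, B' ≤ (S : Subgroup G) → n < Nat.card B' →
        ∀ g : G, cj g B' ≤ (S : Subgroup G) → R B' g) →
      ∀ m : ℕ, ∀ T : Subgroup G, T ≤ (S : Subgroup G) → FCentric (S : Subgroup G) T →
        Nat.card (S : Subgroup G) - Nat.card T = m → n ≤ Nat.card T →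
        ∀ (x : G) (X : Subgroup G), x ∈ Subgroup.normalizer ((W T : Subgroup G) : Set G) →
          X ≤ T → cj x X ≤ T → R X x := by
    intro n hIH m
    induction m using Nat.strong_induction_on with
    | _ m ih =>
    intro T hTS hTc hm hn x X hx hX hxX
    rcases eq_or_lt_of_le hTS with heq | hlt
    · rw [heq] at hx hX hxX
      exact hbase x hx X hX hxX
    · set U := W T with hU
      have hUT : U ≤ T := hWle T hTS
      obtain ⟨k, hk1, hk2⟩ := exists_fully_normalized S U
      have hTlt : T < (S : Subgroup G) ⊓ Subgroup.normalizer (T : Set G) :=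
        lt_inf_normalizer S.2 hlt
      have hTU : (S : Subgroup G) ⊓ Subgroup.normalizer (T : Set G) ≤
          (S : Subgroup G) ⊓ Subgroup.normalizer (U : Set G) :=
        inf_le_inf_left _ (hnorm T hTS)
      have hTle : T ≤ (S : Subgroup G) ⊓ Subgroup.normalizer (U : Set G) := hTlt.le.trans hTU
      have hkT : cj k T ≤ (S : Subgroup G) ⊓ Subgroup.normalizer ((cj k U : Subgroup G) : Set G) :=
        (cj_mono k hTle).trans hk1
      have hkTS : cj k T ≤ (S : Subgroup G) := hkT.trans inf_le_left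
      have hU'S : cj k U ≤ (S : Subgroup G) := (cj_mono k hUT).trans hkTS
      have hZ : (S : Subgroup G) ⊓ Subgroup.centralizer ((S : Subgroup G) : Set G) ≤ cj k U := by
        rw [hU, ← hWconj T hTS]
        exact ((hTc.cj k).center_le hkTS).trans (hWZ _ hkTS)
      have hT2c : FCentric (S : Subgroup G)
          ((S : Subgroup G) ⊓ Subgroup.normalizer ((cj k U : Subgroup G) : Set G)) :=
        (hTc.cj k).mono hkT
      have hc1 : Nat.card T <
          Nat.card ((S : Subgroup G) ⊓ Subgroup.normalizer (U : Set G) : Subgroup G) :=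
        lt_of_lt_of_le (card_lt_of_lt hTlt) (Subgroup.card_le_of_le hTU)
      have hc2 : Nat.card ((S : Subgroup G) ⊓ Subgroup.normalizer (U : Set G) : Subgroup G) ≤
          Nat.card ((S : Subgroup G) ⊓ Subgroup.normalizer ((cj k U : Subgroup G) : Set G) :
            Subgroup G) := by
        rw [← card_cj k]; exact Subgroup.card_le_of_le hk1
      have hc3 : Nat.card ((S : Subgroup G) ⊓ Subgroup.normalizer ((cj k U : Subgroup G) : Set G) :
            Subgroup G) ≤ Nat.card (S : Subgroup G) := Subgroup.card_le_of_le inf_le_left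
      have hGk : R ((S : Subgroup G) ⊓ Subgroup.normalizer (U : Set G)) k :=
        hIH _ inf_le_left (lt_of_le_of_lt hn hc1) k (hk1.trans inf_le_left)
      have hy : k * x * k⁻¹ ∈ Subgroup.normalizer ((cj k U : Subgroup G) : Set G) := by
        rw [mem_normalizer_iff_cj, ← cj_mul]
        have e : k * x * k⁻¹ * k = k * x := by group
        rw [e, cj_mul, mem_normalizer_iff_cj.mp hx]
      have hX' : cj k X ≤ (S : Subgroup G) ⊓ Subgroup.normalizer ((cj k U : Subgroup G) : Set G) :=
        (cj_mono k (hX.trans hTle)).trans hk1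
      have hxX' : cj (k * x * k⁻¹) (cj k X) ≤
          (S : Subgroup G) ⊓ Subgroup.normalizer ((cj k U : Subgroup G) : Set G) := by
        rw [← cj_mul]
        have e : k * x * k⁻¹ * k = k * x := by group
        rw [e, cj_mul]
        exact (cj_mono k (hxX.trans hTle)).trans hk1
      have h2 : R (cj k X) (k * x * k⁻¹) := by
        refine hstep (cj k U) hZ hU'S hk2 ?_ _ hy _ hX' hxX'
        intro z hz B hB hzB
        exact ih _ (by omega) _ inf_le_left hT2c rfl (by omega) z B hz hB hzB
      exact hconj_of X x k (hmono _ _ _ (hX.trans hTle) hGk) h2 (hmono _ _ _ (hxX.trans hTle) hGk)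
  apply alperin_abstract S R hmono htrans hsymm
  intro B hB hIH
  obtain ⟨k, hk1, hk2⟩ := exists_fully_normalized S B
  have hBN : B ≤ (S : Subgroup G) ⊓ Subgroup.normalizer (B : Set G) :=
    le_inf hB Subgroup.le_normalizer
  have hUS : cj k B ≤ (S : Subgroup G) := ((cj_mono k hBN).trans hk1).trans inf_le_left
  refine ⟨cj k B, hUS, ⟨k, rfl⟩, hk2, fun y hy => ?_⟩
  set U := cj k B with hU
  have hcardU : Nat.card U = Nat.card B := card_cj k B
  obtain ⟨c, hc, hcy⟩ := exists_centralizer_mul S hk2 hy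
  have hcyU : cj (c * y) U = U := by
    rw [cj_mul, cj_eq_of_mem_normalizer hy,
      cj_eq_of_mem_normalizer (Subgroup.centralizer_le_normalizer _ hc)]
  -- it suffices to treat `c * y`
  suffices h : R U (c * y) by
    refine hext _ _ _ h ?_
    intro b hb
    have h1 : y * b * y⁻¹ ∈ U := by
      have := conj_mem_cj (g := y) hb
      rwa [cj_eq_of_mem_normalizer hy] at this
    have h2 : (y * b * y⁻¹) * c = c * (y * b * y⁻¹) := Subgroup.mem_centralizer_iff.mp hc _ h1
    calc y * b * y⁻¹ = (y * b * y⁻¹) * c * c⁻¹ := by group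
      _ = c * (y * b * y⁻¹) * c⁻¹ := by rw [h2]
      _ = c * y * b * (c * y)⁻¹ := by group
  by_cases hcen : (S : Subgroup G) ⊓ Subgroup.centralizer (U : Set G) ≤ U
  · have hUc : FCentric (S : Subgroup G) U := fcentric_of_tame S hk2 hcen
    have hUT : U ≤ (S : Subgroup G) ⊓ Subgroup.normalizer (U : Set G) :=
      le_inf hUS Subgroup.le_normalizer
    have hZ : (S : Subgroup G) ⊓ Subgroup.centralizer ((S : Subgroup G) : Set G) ≤ U :=
      (hUc.center_le hUS).trans inf_le_left
    refine hstep U hZ hUS hk2 ?_ _ (mem_normalizer_iff_cj.mpr hcyU) U hUT (by rw [hcyU]; exact hUT)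
    intro z hz X hX hzX
    refine IC (Nat.card B) hIH _ _ inf_le_left (hUc.mono hUT) rfl ?_ z X hz hX hzX
    rw [← hcardU]
    exact Subgroup.card_le_of_le hUT
  · have hU'S : U ⊔ ((S : Subgroup G) ⊓ Subgroup.centralizer (U : Set G)) ≤ (S : Subgroup G) :=
      sup_le hUS inf_le_left
    have hlt : U < U ⊔ ((S : Subgroup G) ⊓ Subgroup.centralizer (U : Set G)) := by
      refine lt_of_le_of_ne le_sup_left ?_
      intro h
      apply hcen
      have h2 : (S : Subgroup G) ⊓ Subgroup.centralizer (U : Set G) ≤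
          U ⊔ ((S : Subgroup G) ⊓ Subgroup.centralizer (U : Set G)) := le_sup_right
      exact h2.trans h.ge
    have hcyU' : cj (c * y) (U ⊔ ((S : Subgroup G) ⊓ Subgroup.centralizer (U : Set G))) =
        U ⊔ ((S : Subgroup G) ⊓ Subgroup.centralizer (U : Set G)) := by
      have e : cj (c * y) (U ⊔ ((S : Subgroup G) ⊓ Subgroup.centralizer (U : Set G))) =
          cj (c * y) U ⊔ cj (c * y) ((S : Subgroup G) ⊓ Subgroup.centralizer (U : Set G)) :=
        Subgroup.map_sup _ _ _
      rw [e, hcyU, hcy]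
    have := hIH _ hU'S (by rw [← hcardU]; exact card_lt_of_lt hlt) (c * y) (by rw [hcyU']; exact hU'S)
    exact hmono _ _ _ le_sup_left this

end Cfsg.Agent.Lib.Helper57.FC
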