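import Mathlib
import Cfsg.Agent.Lib.Helper57.FC10
import Cfsg.Agent.Lib.Helper62.ZJComplement

set_option autoImplicit false

/-! Glauberman–Thompson normal `p`-complement theorem for strongly closed subgroups. -/

namespace Cfsg.Agent.Lib.Helper57.GT

open Cfsg Subgroup Cfsg.Agent.Lib.Helper77 Cfsg.Agent.Lib.Helper62 Cfsg.Agent.Lib.Helper15.ZJ

universe u

theorem stronglyClosed_self {X : Type*} [Group X] (R : Subgroup X) : IsStronglyClosed R R :=
  ⟨le_rfl, fun _ _ _ h => h⟩

theorem stronglyClosed_subgroupOf {X : Type*} [Group X] {D R : Subgroup X} (Y : Subgroup X)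
    (h : IsStronglyClosed D R) : IsStronglyClosed (D.subgroupOf Y) (R.subgroupOf Y) := by
  refine ⟨fun x hx => h.1 hx, ?_⟩
  intro x hx g hg
  exact h.2 x.1 hx g.1 hg

theorem stronglyClosed_quot {p : ℕ} [Fact p.Prime] {X : Type u} [Group X] [Finite X]
    (N : Subgroup X) [N.Normal] (R : Sylow p X) {D : Subgroup X}
    (h : IsStronglyClosed D (R : Subgroup X)) :
    IsStronglyClosed (D.map (QuotientGroup.mk' N)) ((R : Subgroup X).map (QuotientGroup.mk' N)) := by
  have h1 := FC.nset_of_stronglyClosed R h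
  have h2 := (h1.quot N).stronglyClosed (R.mapSurjective (QuotientGroup.mk'_surjective N))
  rw [Sylow.coe_mapSurjective, h1.δof_quot N R, FC.δof_of_stronglyClosed R h] at h2
  exact h2

theorem stronglyClosed_conj {X : Type*} [Group X] {D R : Subgroup X} (g : X)
    (h : IsStronglyClosed D R) :
    IsStronglyClosed (D.map (MulAut.conj g).toMonoidHom) (R.map (MulAut.conj g).toMonoidHom) := by
  refine ⟨map_mono h.1, ?_⟩
  rintro _ ⟨x, hx, rfl⟩ k ⟨r, hr, hrk⟩
  have hrk' : g * r * g⁻¹ = k * (g * x * g⁻¹) * k⁻¹ := hrk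
  have h1 : (g⁻¹ * k * g) * x * (g⁻¹ * k * g)⁻¹ = r := by
    have : r = g⁻¹ * (g * r * g⁻¹) * g := by group
    rw [this, hrk']; group
  have h2 := h.2 x hx (g⁻¹ * k * g) (by rw [h1]; exact hr)
  refine ⟨_, h2, ?_⟩
  show g * ((g⁻¹ * k * g) * x * (g⁻¹ * k * g)⁻¹) * g⁻¹ = k * (g * x * g⁻¹) * k⁻¹
  group

theorem ZE_zero_eq {G : Type u} [Group G] [Finite G] (D : Subgroup G) :
    ZE 0 D = centerThompsonAOf D := by
  rw [← FC.ind_WZ_eq_ZE, ind_WZ_zero]

theorem ZE_p_eq {p : ℕ} {G : Type u} [Group G] [Finite G] (D : Subgroup G) :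
    ZE p D = omegaOne p (centerThompsonOf p D) := by
  rw [← FC.ind_WZ_eq_ZE, FC.ind_WZ_p]

/-- Glauberman–Thompson for strongly closed subgroups. -/
theorem npc_of_npc_normalizer_ZE_sc {p : ℕ} [hp : Fact p.Prime] (hp2 : p ≠ 2) {e : ℕ}
    (he : e = 0 ∨ e = p) {G : Type u} [Group G] [Finite G] (P : Sylow p G) (D : Subgroup G)
    (hD : IsStronglyClosed D (P : Subgroup G))
    (hN : NPC p (normalizer (ZE e D : Set G))) : NPC p G := by
  have F : Frame p (fun (X : Type u) _ => True)
      (fun X _ R => ∃ D : Subgroup X, IsStronglyClosed D R ∧ NPC p (normalizer (ZE e D : Set X))) :=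
    { sub := fun _ _ _ _ => trivial
      quot := fun _ _ _ _ _ => trivial
      loc := by
        intro X _ _ _ R hR h
        refine ⟨R, stronglyClosed_self _, h _ (ZE_le e _) (ZE_ne_bot he R.2 hR) ?_⟩
        intro Z _ _ i hi
        rw [← ZE_map i hi.injOn]
        exact normalizer_le_normalizer_ZE e _
      res := by
        rintro X _ _ Y R hRY ⟨D, hD, h⟩
        refine ⟨D.subgroupOf Y, stronglyClosed_subgroupOf Y hD, ?_⟩
        apply npc_normalizer_of_injective Y.subtype Y.subtype_injective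
        rw [← ZE_map Y.subtype Y.subtype_injective.injOn, subgroupOf_map_subtype,
          inf_of_le_left (hD.1.trans hRY)]
        exact h
      pquot := by
        rintro X _ _ N _ hN R ⟨D, hD, h⟩
        refine ⟨D.map (QuotientGroup.mk' N), stronglyClosed_quot N R hD, ?_⟩
        rw [ZE_map _ (injOn_mk'_of_coprime N hN (R.2.to_le hD.1))]
        exact npc_normalizer_quot N hN (R.2.to_le ((ZE_le e _).trans hD.1)) h
      fin := by
        intro X _ _ _ hH hC hq hco
        obtain ⟨T⟩ : Nonempty (Sylow p X) := inferInstance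
        obtain ⟨K, hPAP⟩ := exists_PAP (Cfsg.pCore p X) Cfsg.Agent.Lib.Helper14.isPGroup_pCore hq T
          (hco T)
        obtain ⟨D, hD, h⟩ := hH T
        have hn := Cfsg.Agent.S3079.result hp2 T D hD (hPAP.isNormalizerPStable hp2) hC
        have hn' : (ZE e D).Normal := by
          rcases he with rfl | rfl
          · rw [ZE_zero_eq]; exact hn.1
          · rw [ZE_p_eq]; exact hn.2
        exact NPC.of_eq_top (normalizer_eq_top_iff.2 hn') h }
  apply F.main _ G rfl trivial
  intro T
  obtain ⟨g, rfl⟩ := MulAction.exists_smul_eq G P T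
  have h1 : ((g • P : Sylow p G) : Subgroup G) = (P : Subgroup G).map (MulAut.conj g).toMonoidHom := rfl
  refine ⟨D.map (MulAut.conj g).toMonoidHom, ?_, ?_⟩
  · rw [h1]; exact stronglyClosed_conj g hD
  · rw [ZE_map _ (MulAut.conj g).injective.injOn,
      ← map_normalizer_eq_of_bijective _ (MulAut.conj g).bijective]
    exact NPC.of_mulEquiv (equivMapOfInjective _ _ (MulAut.conj g).injective) hN

end Cfsg.Agent.Lib.Helper57.GT
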