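import Mathlib
import Cfsg.Agent.Lib.Helper57.FC12
import Cfsg.Agent.Lib.Helper57.GT1
import Cfsg.Agent.S3081

set_option autoImplicit false

/-! `Z(J(S))` controls strong fusion as soon as the normalizers `N(H)`, `Z(S) ≤ H ≤ S`, are
`SL₂(p)`-free. -/

namespace Cfsg.Agent.Lib.Helper57.FC

open Cfsg Cfsg.Agent.Lib.Helper39

universe u v w

theorem involves_of_span_range {G : Type u} [Group G] {H : Type v} [Group H] {Δ : Type w} [Group Δ]
    (i : Δ →* G) (hi : Function.Injective i) (f : Δ →* H) (hf : Function.Surjective f) :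
    ∃ (R : Subgroup G) (_ : (R.subgroupOf i.range).Normal),
      Nonempty (i.range ⧸ R.subgroupOf i.range ≃* H) := by
  let e : Δ ≃* i.range := MonoidHom.ofInjective hi
  let f' : i.range →* H := f.comp e.symm.toMonoidHom
  have hf' : Function.Surjective f' := hf.comp e.symm.surjective
  have hker : (f'.ker.map i.range.subtype).subgroupOf i.range = f'.ker := by
    rw [Subgroup.subgroupOf, Subgroup.comap_map_eq_self_of_injective i.range.subtype_injective]
  have hn : ((f'.ker.map i.range.subtype).subgroupOf i.range).Normal := by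
    rw [hker]; infer_instance
  refine ⟨f'.ker.map i.range.subtype, hn, ⟨?_⟩⟩
  exact (QuotientGroup.quotientMulEquivOfEq hker).trans
    (QuotientGroup.quotientKerEquivOfSurjective f' hf')

/-- `SL₂(p)` embeds in `Qd(p)` -/
def blkHom (p : ℕ) : Qd.SL2 p →* ↥(qd p) where
  toFun := Qd.blk
  map_one' := Qd.blk_one
  map_mul' := Qd.blk_mul

theorem blkHom_injective (p : ℕ) : Function.Injective (blkHom p) := by
  intro m m' h
  have h1 : Qd.qmat (Qd.blk m) = Qd.qmat (Qd.blk m') := by
    have : Qd.blk m = Qd.blk m' := h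
    rw [this]
  rw [Qd.coe_blk, Qd.coe_blk] at h1
  apply Subtype.ext
  ext i j
  fin_cases i <;> fin_cases j
  · exact congrFun (congrFun h1 0) 0
  · exact congrFun (congrFun h1 0) 1
  · exact congrFun (congrFun h1 1) 0
  · exact congrFun (congrFun h1 1) 1

theorem involves_sl2_qd (p : ℕ) : Involves (Qd.SL2 p) ↥(qd p) :=
  Qd.involves_of_span (blkHom p) (blkHom_injective p) (MonoidHom.id _) Function.surjective_id

/-- a subgroup all of whose sections are different from `SL₂(p)` does not involve `Qd(p)` -/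
theorem not_involves_qd_of_sl2_free {G : Type u} [Group G] {p : ℕ} (N : Subgroup G)
    (hfree : ¬ ∃ (H K : Subgroup G) (_ : (K.subgroupOf H).Normal), H ≤ N ∧
        Nonempty ((H ⧸ K.subgroupOf H) ≃* Matrix.SpecialLinearGroup (Fin 2) (ZMod p))) :
    ¬ Involves ↥(qd p) ↥N := by
  intro h
  obtain ⟨K₁, f, hf⟩ := Qd.exists_span_of_involves h
  have h2 : Involves (Qd.SL2 p) ↥N := Qd.involves_trans f hf (involves_sl2_qd p)
  obtain ⟨K₃, f₃, hf₃⟩ := Qd.exists_span_of_involves h2
  obtain ⟨R, hR, he⟩ := involves_of_span_range (N.subtype.comp K₃.subtype)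
    (N.subtype_injective.comp K₃.subtype_injective) f₃ hf₃
  refine hfree ⟨_, R, hR, ?_, he⟩
  rintro _ ⟨x, rfl⟩
  exact x.1.2

theorem ctl_ZJ_of_sl2_free {G : Type u} [Group G] [Finite G] {p : ℕ} [Fact p.Prime]
    (hp : p ≠ 2) (S : Sylow p G)
    (hfree : ∀ P : Subgroup G,
      (S : Subgroup G) ⊓ Subgroup.centralizer ((S : Subgroup G) : Set G) ≤ P → P ≤ S →
      ¬ ∃ (H K : Subgroup G) (_ : (K.subgroupOf H).Normal), H ≤ Subgroup.normalizer (P : Set G) ∧
        Nonempty ((H ⧸ K.subgroupOf H) ≃* Matrix.SpecialLinearGroup (Fin 2) (ZMod p))) :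
    Ctl {Subgroup.normalizer ((centerThompsonAOf (S : Subgroup G) : Subgroup G) : Set G)}
      (S : Subgroup G) := by
  apply centric_skeleton S (fun T => centerThompsonAOf T)
  · intro T _
    rw [← GT.ZE_zero_eq]; exact Cfsg.Agent.Lib.Helper15.ZJ.ZE_le 0 T
  · intro T _ x hx
    rw [← GT.ZE_zero_eq, Cfsg.Agent.Lib.Helper15.ZJ.mem_ZE_iff]
    refine ⟨hx.1, pow_zero x, fun A hA a ha => ?_⟩
    exact Subgroup.mem_centralizer_iff.mp hx.2 a (hA.1 ha)
  · intro T _ g
    rw [← GT.ZE_zero_eq, ← GT.ZE_zero_eq]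
    exact Cfsg.Agent.Lib.Helper15.ZJ.ZE_map _ (MulAut.conj g).injective.injOn
  · intro B B' g hB h; exact h.mono hB
  · intro B g h h1 h2; exact Gen.comp h1 h2
  · intro B g h; exact h.symm
  · intro B g g' h h'; exact Gen.ext h h'
  · intro x hx X hX hxX
    exact Gen.base rfl hx hX hxX
  · intro H hZ hHS htame hN y hy X hX hyX
    set N := Subgroup.normalizer (H : Set G) with hNdef
    set T := (S : Subgroup G) ⊓ N with hT
    have hqd : ¬ Involves ↥(qd p) ↥N := not_involves_qd_of_sl2_free N (hfree H hZ hHS)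
    have hTp : IsPGroup p (T.subgroupOf N) := (S.2.to_le inf_le_left).comap_subtype
    let TX : Sylow p ↥N := hTp.toSylow htame
    have hTX : (TX : Subgroup ↥N) = T.subgroupOf N := rfl
    have h1 := (Cfsg.Agent.S3081.result hp TX (TX : Subgroup ↥N) (GT.stronglyClosed_self _) hqd).1
      ((X.subgroupOf N : Subgroup ↥N) : Set ↥N) (by
        intro a ha
        exact hX ha)
    obtain ⟨x, hx, hxa⟩ := h1.2 ⟨y, hy⟩ (by
      rintro _ ⟨a, ha, rfl⟩
      exact hyX (conj_mem_cj ha))
    have hXN : X ≤ N := hX.trans inf_le_right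
    have hact : ∀ b ∈ X, y * b * y⁻¹ = x.1 * b * x.1⁻¹ := by
      intro b hb
      exact congrArg Subtype.val (hxa ⟨b, hXN hb⟩ hb)
    have hmap : (centerThompsonAOf (TX : Subgroup ↥N)).map N.subtype = centerThompsonAOf T := by
      rw [← GT.ZE_zero_eq, ← GT.ZE_zero_eq,
        ← Cfsg.Agent.Lib.Helper15.ZJ.ZE_map N.subtype N.subtype_injective.injOn, hTX,
        Subgroup.subgroupOf_map_subtype, inf_of_le_left inf_le_right]
    have hx' : x.1 ∈ Subgroup.normalizer ((centerThompsonAOf T : Subgroup G) : Set G) := by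
      rw [← hmap]
      exact Subgroup.le_normalizer_map N.subtype ⟨x, hx, rfl⟩
    have hcj : cj x.1 X = cj y X := conj_eq_of_same_action (fun b hb => (hact b hb).symm)
    exact Gen.ext (hN x.1 hx' X hX (by rw [hcj]; exact hyX)) hact

end Cfsg.Agent.Lib.Helper57.FC
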