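import Mathlib
import Cfsg.Agent.Lib.Helper31.CN

set_option autoImplicit false

namespace Cfsg.Agent.Lib.Helper57.NilCover

open Equiv Equiv.Perm
open Cfsg.Agent.Lib.Helper31 (commute_of_mem_nilpotent)

section cover

variable {G : Type*} [Group G]

/-- in a minimal cover two members inside a common proper subgroup coincide -/
theorem eq_of_le_proper (𝓐 : Finset (Subgroup G))
    (hprop : ∀ A ∈ 𝓐, A ≠ ⊤) (hcov : ∀ g : G, ∃ A ∈ 𝓐, g ∈ A)
    (hmin : ∀ 𝓑 : Finset (Subgroup G), (∀ A ∈ 𝓑, A ≠ ⊤) ∧ (∀ g : G, ∃ A ∈ 𝓑, g ∈ A) →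
      𝓐.card ≤ 𝓑.card)
    (M : Subgroup G) (hM : M ≠ ⊤) {A A' : Subgroup G} (hA : A ∈ 𝓐) (hA' : A' ∈ 𝓐)
    (h1 : A ≤ M) (h2 : A' ≤ M) : A = A' := by
  classical
  by_contra hne
  have h := hmin (insert M ((𝓐.erase A).erase A')) ⟨?_, ?_⟩
  · have c1 : ((𝓐.erase A).erase A').card = 𝓐.card - 1 - 1 := by
      rw [Finset.card_erase_of_mem (Finset.mem_erase.2 ⟨fun h => hne h.symm, hA'⟩),
        Finset.card_erase_of_mem hA]
    have c2 := Finset.card_insert_le M ((𝓐.erase A).erase A')
    have c3 : 2 ≤ 𝓐.card := by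
      have h3 : ({A, A'} : Finset (Subgroup G)) ⊆ 𝓐 := by
        intro B hB
        simp only [Finset.mem_insert, Finset.mem_singleton] at hB
        rcases hB with rfl | rfl <;> assumption
      have h4 := Finset.card_le_card h3
      rwa [Finset.card_pair hne] at h4
    omega
  · intro B hB
    rcases Finset.mem_insert.1 hB with rfl | hB
    · exact hM
    · exact hprop B (Finset.mem_of_mem_erase (Finset.mem_of_mem_erase hB))
  · intro g
    obtain ⟨B, hB, hg⟩ := hcov g
    by_cases e1 : B = A
    · exact ⟨M, Finset.mem_insert_self _ _, h1 (e1 ▸ hg)⟩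
    by_cases e2 : B = A'
    · exact ⟨M, Finset.mem_insert_self _ _, h2 (e2 ▸ hg)⟩
    exact ⟨B, Finset.mem_insert_of_mem (Finset.mem_erase.2 ⟨e2, Finset.mem_erase.2 ⟨e1, hB⟩⟩), hg⟩

end cover

variable {α : Type*} [Fintype α] [DecidableEq α]

/-- setwise stabiliser of a finite set -/
def stabF (F : Finset α) : Subgroup (Perm α) where
  carrier := {g | ∀ u, g u ∈ F ↔ u ∈ F}
  mul_mem' := by
    intro g h hg hh u
    rw [Perm.mul_apply, hg, hh]
  one_mem' := by intro u; rfl
  inv_mem' := by
    intro g hg u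
    rw [← hg (g⁻¹ u)]
    simp

theorem mem_stabF {F : Finset α} {g : Perm α} : g ∈ stabF F ↔ ∀ u, g u ∈ F ↔ u ∈ F := Iff.rfl

theorem exists_cycle (s : Finset α) (hs : 2 ≤ s.card) : ∃ x : Perm α, x.IsCycle ∧ x.support = s := by
  refine ⟨s.toList.formPerm, List.isCycle_formPerm s.nodup_toList (by simpa using hs), ?_⟩
  rw [List.support_formPerm_of_nodup _ s.nodup_toList, Finset.toList_toFinset]
  intro x hx
  have := congrArg List.length hx
  simp at this
  omega

theorem fix_all {x z : Perm α} (hx : x.IsCycle) (hzx : z * x = x * z) {u : α}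
    (hus : u ∈ x.support) (hu : z u = u) : ∀ v ∈ x.support, z v = v := by
  intro v hv
  obtain ⟨k, hk⟩ := hx.sameCycle (mem_support.1 hus) (mem_support.1 hv)
  have hcomm : z * x ^ k = x ^ k * z := (show Commute z x from hzx).zpow_right k
  calc z v = z ((x ^ k) u) := by rw [hk]
    _ = (z * x ^ k) u := rfl
    _ = (x ^ k * z) u := by rw [hcomm]
    _ = (x ^ k) (z u) := rfl
    _ = v := by rw [hu, hk]

theorem fix_iff {x z : Perm α} (hx : x.IsCycle) (hzx : z * x = x * z) (hz1 : z ≠ 1)
    (hzF : ∀ u, u ∉ x.support → z u = u) : ∀ u, z u = u ↔ u ∉ x.support := by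
  intro u
  refine ⟨fun hu hus => hz1 ?_, hzF u⟩
  ext v
  by_cases hv : v ∈ x.support
  · exact fix_all hx hzx hus hu v hv
  · exact hzF v hv

theorem le_stab {G : Type*} [Group G] (ι : G →* Perm α) (hι : Function.Injective ι)
    (B : Subgroup G) (hB : Group.IsNilpotent B) (Y : G) (hY : Y ∈ B) (hy : (ι Y).IsCycle)
    (F : Finset α) (hF : ∀ u, u ∈ F ↔ u ∉ (ι Y).support)
    (hcase : F.card = 1 ∨ (F.card = 2 ∧ Odd (Fintype.card α) ∧ ∀ g : G, sign (ι g) = 1)) :
    B ≤ (stabF F).comap ι := by
  -- it suffices to find a central element with fixed point set `F`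
  suffices hW : ∃ W : G, (∀ g ∈ B, W * g = g * W) ∧ ∀ u, ι W u = u ↔ u ∈ F by
    obtain ⟨W, hWc, hWF⟩ := hW
    intro g hg
    rw [Subgroup.mem_comap, mem_stabF]
    intro u
    have e : ι W (ι g u) = ι g (ι W u) := by
      have := congrArg (fun t => ι t u) (hWc g hg)
      simpa [map_mul] using this
    rw [← hWF, e, (ι g).injective.eq_iff, hWF]
  have hY1 : Y ≠ 1 := by
    rintro rfl
    rw [map_one] at hy
    exact hy.ne_one rfl
  haveI : Nontrivial B := ⟨⟨⟨Y, hY⟩, 1, fun h => hY1 (congrArg Subtype.val h)⟩⟩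
  haveI := hB
  obtain ⟨Z₀, hZ₀1⟩ := (Subgroup.ne_bot_iff_exists_ne_one).1
    (Group.IsNilpotent.center_ne_bot (G := B))
  obtain ⟨⟨Z, hZB⟩, hZc⟩ := Z₀
  have hZ1 : Z ≠ 1 := by
    intro h
    apply hZ₀1
    ext
    exact h
  have hZcomm : ∀ g ∈ B, Z * g = g * Z := by
    intro g hg
    have := Subgroup.mem_center_iff.1 hZc ⟨g, hg⟩
    exact (congrArg Subtype.val this).symm
  have hz1 : ι Z ≠ 1 := by
    intro h
    exact hZ1 (hι (by rw [h, map_one]))
  have hzy : ι Z * ι Y = ι Y * ι Z := by rw [← map_mul, ← map_mul, hZcomm Y hY]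
  have hpres : ∀ u, ι Z u ∈ F ↔ u ∈ F := by
    intro u
    have e : ι Y (ι Z u) = ι Z (ι Y u) := by
      have := congrArg (fun t : Perm α => t u) hzy
      simpa using this.symm
    rw [hF, hF, mem_support, mem_support, not_not, not_not, e, (ι Z).injective.eq_iff]
  rcases hcase with hc | ⟨hc, hodd, heven⟩
  · obtain ⟨a, rfl⟩ := Finset.card_eq_one.1 hc
    refine ⟨Z, hZcomm, ?_⟩
    intro u
    rw [hF]
    apply fix_iff hy hzy hz1
    intro v hv
    have hv' : v ∈ ({a} : Finset α) := (hF v).2 hv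
    have h1 := (hpres v).2 hv'
    rw [Finset.mem_singleton] at hv' h1
    rw [h1, hv']
  · obtain ⟨a, b, hab, rfl⟩ := Finset.card_eq_two.1 hc
    have ha : ι Z a = a ∨ ι Z a = b := by
      have := (hpres a).2 (by simp)
      simpa using this
    have hb : ι Z b = a ∨ ι Z b = b := by
      have := (hpres b).2 (by simp)
      simpa using this
    rcases ha with ha | ha
    · have hb' : ι Z b = b := by
        rcases hb with hb | hb
        · exact absurd ((ι Z).injective (hb.trans ha.symm)) (Ne.symm hab)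
        · exact hb
      refine ⟨Z, hZcomm, ?_⟩
      intro u
      rw [hF]
      apply fix_iff hy hzy hz1
      intro v hv
      have hv' : v ∈ ({a, b} : Finset α) := (hF v).2 hv
      simp only [Finset.mem_insert, Finset.mem_singleton] at hv'
      rcases hv' with rfl | rfl
      · exact ha
      · exact hb'
    · have hb' : ι Z b = a := by
        rcases hb with hb | hb
        · exact hb
        · exact absurd ((ι Z).injective (hb.trans ha.symm)) (Ne.symm hab)
      by_cases hw : ι (Z * Z) = 1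
      · exfalso
        by_cases hfix : ∃ u, ι Z u = u
        · obtain ⟨u, hu⟩ := hfix
          have hus : u ∈ (ι Y).support := by
            by_contra h
            have hv' : u ∈ ({a, b} : Finset α) := (hF u).2 h
            simp only [Finset.mem_insert, Finset.mem_singleton] at hv'
            rcases hv' with rfl | rfl
            · exact hab (hu.symm.trans ha)
            · exact hab (hb'.symm.trans hu)
          have hall := fix_all hy hzy hus hu
          have : ι Z = swap a b := by
            ext v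
            by_cases hv : v ∈ (ι Y).support
            · have h1 : v ≠ a := by
                rintro rfl
                exact ((hF v).1 (by simp)) hv
              have h2 : v ≠ b := by
                rintro rfl
                exact ((hF v).1 (by simp)) hv
              rw [hall v hv, swap_apply_of_ne_of_ne h1 h2]
            · have hv' : v ∈ ({a, b} : Finset α) := (hF v).2 hv
              simp only [Finset.mem_insert, Finset.mem_singleton] at hv'
              rcases hv' with rfl | rfl
              · rw [ha, swap_apply_left]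
              · rw [hb', swap_apply_right]
          have h3 := heven Z
          rw [this, sign_swap hab] at h3
          exact absurd h3 (by decide)
        · have hsupp : (ι Z).support = Finset.univ := by
            ext v
            simp only [mem_support, Finset.mem_univ, iff_true]
            exact fun h => hfix ⟨v, h⟩
          have h2 : (ι Z) ^ 2 = 1 := by rw [pow_two, ← map_mul, hw]
          have h3 := two_dvd_card_support h2
          rw [hsupp, Finset.card_univ] at h3
          exact (Nat.not_even_iff_odd.2 hodd) (even_iff_two_dvd.2 h3)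
      · refine ⟨Z * Z, ?_, ?_⟩
        · intro g hg
          calc Z * Z * g = Z * (Z * g) := by group
            _ = Z * (g * Z) := by rw [hZcomm g hg]
            _ = (Z * g) * Z := by group
            _ = g * Z * Z := by rw [hZcomm g hg]
            _ = g * (Z * Z) := by group
        · intro u
          rw [hF]
          apply fix_iff hy ?_ hw
          · intro v hv
            have hv' : v ∈ ({a, b} : Finset α) := (hF v).2 hv
            simp only [Finset.mem_insert, Finset.mem_singleton] at hv'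
            rw [map_mul, Perm.mul_apply]
            rcases hv' with rfl | rfl
            · rw [ha, hb']
            · rw [hb', ha]
          · rw [map_mul]
            calc ι Z * ι Z * ι Y = ι Z * (ι Z * ι Y) := by group
              _ = ι Z * (ι Y * ι Z) := by rw [hzy]
              _ = (ι Z * ι Y) * ι Z := by group
              _ = ι Y * ι Z * ι Z := by rw [hzy]
              _ = ι Y * (ι Z * ι Z) := by group

theorem swap_apply_mem {S : Finset α} {a b : α} (ha : a ∈ S) (hb : b ∈ S) {v : α} (hv : v ∈ S) :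
    swap a b v ∈ S := by
  by_cases h1 : v = a
  · subst h1; rwa [swap_apply_left]
  by_cases h2 : v = b
  · subst h2; rwa [swap_apply_right]
  rwa [swap_apply_of_ne_of_ne h1 h2]

theorem support_conj_swap (x : Perm α) {a b : α} (ha : a ∈ x.support) (hb : b ∈ x.support) :
    (swap a b * x * (swap a b)⁻¹).support = x.support := by
  rw [support_conj]
  ext v
  simp only [Finset.mem_map, Equiv.coe_toEmbedding]
  constructor
  · rintro ⟨w, hw, rfl⟩
    exact swap_apply_mem ha hb hw
  · intro hv
    exact ⟨swap a b v, swap_apply_mem ha hb hv, swap_apply_self a b v⟩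

theorem conj_swap_eq (x : Perm α) (a b : α) :
    swap a b * x * (swap a b)⁻¹ = swap a b * swap (x a) (x b) * x := by
  rw [swap_apply_apply, swap_inv]
  group

/-- the main contradiction -/
theorem no_cover {G : Type*} [Group G] (ι : G →* Perm α) (hι : Function.Injective ι)
    (x : Perm α) (hx : x.IsCycle) (h4 : 4 ≤ x.support.card)
    (hr : ∀ σ : Perm α, sign σ = 1 → σ ∈ ι.range) (hxr : x ∈ ι.range)
    (hcase : (x.supportᶜ).card = 1 ∨
      ((x.supportᶜ).card = 2 ∧ Odd (Fintype.card α) ∧ ∀ g : G, sign (ι g) = 1))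
    (𝓐 : Finset (Subgroup G))
    (hprop : ∀ A ∈ 𝓐, A ≠ ⊤) (hcov : ∀ g : G, ∃ A ∈ 𝓐, g ∈ A)
    (hmin : ∀ 𝓑 : Finset (Subgroup G), (∀ A ∈ 𝓑, A ≠ ⊤) ∧ (∀ g : G, ∃ A ∈ 𝓑, g ∈ A) →
      𝓐.card ≤ 𝓑.card)
    (hnil : ∀ A ∈ 𝓐, Group.IsNilpotent ↥A) : False := by
  obtain ⟨u, hu⟩ : ∃ u, u ∈ x.support := by
    apply Finset.card_pos.1; omega
  have hne : ∀ k : ℕ, 0 < k → k < 4 → (x ^ k) u ≠ u := by
    intro k hk0 hk4 h
    have h1 := (hx.pow_eq_one_iff' (mem_support.1 hu)).2 h
    have h2 := orderOf_dvd_of_pow_eq_one h1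
    rw [hx.orderOf] at h2
    have := Nat.le_of_dvd hk0 h2
    omega
  have p1 : x u ≠ u := by simpa using hne 1 (by norm_num) (by norm_num)
  have p2 : x (x u) ≠ u := by simpa [pow_succ] using hne 2 (by norm_num) (by norm_num)
  have p3 : x (x (x u)) ≠ u := by simpa [pow_succ] using hne 3 (by norm_num) (by norm_num)
  obtain ⟨u2, hu2⟩ : ∃ u2, u2 = x u := ⟨_, rfl⟩
  obtain ⟨u3, hu3⟩ : ∃ u3, u3 = x u2 := ⟨_, rfl⟩
  obtain ⟨u4, hu4⟩ : ∃ u4, u4 = x u3 := ⟨_, rfl⟩
  have n12 : u ≠ u2 := by rw [hu2]; exact p1.symm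
  have n13 : u ≠ u3 := by rw [hu3, hu2]; exact p2.symm
  have n14 : u ≠ u4 := by rw [hu4, hu3, hu2]; exact p3.symm
  have n23 : u2 ≠ u3 := by
    rw [hu3, hu2]; intro h; exact p1 (x.injective h).symm
  have n24 : u2 ≠ u4 := by
    rw [hu4, hu3, hu2]; intro h; exact p2 (x.injective h).symm
  have n34 : u3 ≠ u4 := by
    rw [hu4, hu3, hu2]; intro h; exact p1 (x.injective (x.injective h)).symm
  have s2 : u2 ∈ x.support := by rw [hu2]; exact apply_mem_support.2 hu
  have s3 : u3 ∈ x.support := by rw [hu3]; exact apply_mem_support.2 s2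
  obtain ⟨c, hc⟩ : ∃ c, c = swap u u2 * swap u2 u3 := ⟨_, rfl⟩
  obtain ⟨d, hd⟩ : ∃ d, d = swap u u3 * swap u2 u4 := ⟨_, rfl⟩
  have hcx : c * x = swap u u2 * x * (swap u u2)⁻¹ := by
    rw [conj_swap_eq, hc, ← hu2, ← hu3]
  have hdx : d * x = swap u u3 * x * (swap u u3)⁻¹ := by
    rw [conj_swap_eq, hd, ← hu2, ← hu4]
  have sc : sign c = 1 := by rw [hc, Perm.sign_mul, sign_swap n12, sign_swap n23]; rfl
  have sd : sign d = 1 := by rw [hd, Perm.sign_mul, sign_swap n13, sign_swap n24]; rfl
  have c3 : c ^ 3 = 1 := by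
    have h3 : IsThreeCycle c := by
      rw [hc, swap_comm u u2]
      exact isThreeCycle_swap_mul_swap_same n12.symm n23 n13
    rw [← h3.orderOf]; exact pow_orderOf_eq_one c
  have d2 : d ^ 2 = 1 := by
    have hdis : (swap u u3).Disjoint (swap u2 u4) := by
      apply disjoint_swap_swap
      simp [n12, n13, n14, n23.symm, n34, n24]
    rw [hd, hdis.commute.mul_pow, pow_two, pow_two, swap_mul_self, swap_mul_self, one_mul]
  have hcd : c * d ≠ d * c := by
    intro h
    have h1 := congrArg (fun t : Perm α => t u4) h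
    simp only [Perm.mul_apply, hc, hd] at h1
    rw [swap_apply_right, swap_apply_of_ne_of_ne n12.symm n23, swap_apply_left,
      swap_apply_of_ne_of_ne n13.symm n23.symm, swap_apply_of_ne_of_ne n24.symm n34.symm,
      swap_apply_of_ne_of_ne n14.symm n24.symm, swap_apply_right,
      swap_apply_of_ne_of_ne n12.symm n23] at h1
    exact n23 h1.symm
  obtain ⟨X, hX⟩ := hxr
  obtain ⟨C, hC⟩ := hr c sc
  obtain ⟨D, hD⟩ := hr d sd
  obtain ⟨F, hFdef⟩ : ∃ F, F = x.supportᶜ := ⟨_, rfl⟩
  rw [← hFdef] at hcase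
  have hF : ∀ v, v ∈ F ↔ v ∉ x.support := by
    intro v; rw [hFdef, Finset.mem_compl]
  -- the proper subgroup
  have hM : (stabF F).comap ι ≠ ⊤ := by
    obtain ⟨a, ha⟩ : ∃ a, a ∈ F := by
      apply Finset.card_pos.1
      rcases hcase with h | ⟨h, -⟩ <;> omega
    have ha' := (hF a).1 ha
    have na1 : a ≠ u := by rintro rfl; exact ha' hu
    have na2 : a ≠ u2 := by rintro rfl; exact ha' s2
    obtain ⟨g, hg⟩ := hr (swap a u * swap u u2) (by
      rw [Perm.sign_mul, sign_swap na1, sign_swap n12]; rfl)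
    intro htop
    have h1 : g ∈ (stabF F).comap ι := by rw [htop]; exact Subgroup.mem_top g
    rw [Subgroup.mem_comap, mem_stabF, hg] at h1
    have h2 := (h1 a).2 ha
    rw [Perm.mul_apply, swap_apply_of_ne_of_ne na1 na2, swap_apply_left] at h2
    exact (hF u).1 h2 hu
  -- each of the three cycles forces its member into the stabiliser
  have key : ∀ Y : G, (ι Y).IsCycle → (ι Y).support = x.support → ∀ B ∈ 𝓐, Y ∈ B →
      B ≤ (stabF F).comap ι := by
    intro Y hY1 hY2 B hB hYB
    exact le_stab ι hι B (hnil B hB) Y hYB hY1 F (by intro v; rw [hY2]; exact hF v) hcase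
  obtain ⟨B, hB, hXB⟩ := hcov X
  obtain ⟨B', hB', hXB'⟩ := hcov (C * X)
  obtain ⟨B'', hB'', hXB''⟩ := hcov (D * X)
  have k1 := key X (by rw [hX]; exact hx) (by rw [hX]) B hB hXB
  have k2 := key (C * X) (by rw [map_mul, hX, hC, hcx]; exact hx.conj)
    (by rw [map_mul, hX, hC, hcx]; exact support_conj_swap x hu s2) B' hB' hXB'
  have k3 := key (D * X) (by rw [map_mul, hX, hD, hdx]; exact hx.conj)
    (by rw [map_mul, hX, hD, hdx]; exact support_conj_swap x hu s3) B'' hB'' hXB''
  have e2 : B = B' := eq_of_le_proper 𝓐 hprop hcov hmin _ hM hB hB' k1 k2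
  have e3 : B = B'' := eq_of_le_proper 𝓐 hprop hcov hmin _ hM hB hB'' k1 k3
  rw [← e2] at hXB'
  rw [← e3] at hXB''
  have hCB : C ∈ B := by
    have := B.mul_mem hXB' (B.inv_mem hXB)
    simpa using this
  have hDB : D ∈ B := by
    have := B.mul_mem hXB'' (B.inv_mem hXB)
    simpa using this
  have oC : orderOf C ∣ 3 := by
    rw [← orderOf_injective ι hι, hC]; exact orderOf_dvd_of_pow_eq_one c3
  have oD : orderOf D ∣ 2 := by
    rw [← orderOf_injective ι hι, hD]; exact orderOf_dvd_of_pow_eq_one d2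
  have hco : (orderOf C).Coprime (orderOf D) :=
    Nat.Coprime.coprime_dvd_left oC (Nat.Coprime.coprime_dvd_right oD (by norm_num))
  have hcomm := commute_of_mem_nilpotent B (hnil B hB) hCB hDB hco
  apply hcd
  rw [← hC, ← hD, ← map_mul, ← map_mul, hcomm]

end Cfsg.Agent.Lib.Helper57.NilCover
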