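import Mathlib
import Cfsg.Agent.Lib.Helper36.SL2Quot
import Cfsg.Agent.Lib.Helper59.SL2
import Cfsg.Agent.Lib.Helper7.SL2

set_option autoImplicit false

namespace Cfsg.Agent.Lib.Helper57.SLC

open Matrix Subgroup
open Cfsg.Agent.Lib.Helper36 (sl2U sl2L sl2_generated sl2U_val sl2L_val)
open Cfsg.Agent.Lib.Helper59 (zSL wSL sl2_ext sl2_det coe_wSL coe_zSL sl2_mul_self_eq_one
  two_ne_zero_of_odd_card)

variable {F : Type*} [Field F]

local notation "SL" => SpecialLinearGroup (Fin 2) F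

theorem mul_entry (a b : SL) (i k : Fin 2) :
    (a * b).1 i k = a.1 i 0 * b.1 0 k + a.1 i 1 * b.1 1 k := by
  show (a.1 * b.1) i k = _
  rw [Matrix.mul_apply, Fin.sum_univ_two]

/-- inverse of `wSL` -/
def wI : SL := ⟨!![0, -1; 1, 0], by simp [det_fin_two]⟩

theorem coe_wI : (wI : SL).1 = !![0, -1; 1, 0] := rfl

theorem wSL_inv : (wSL : SL)⁻¹ = wI := by
  apply inv_eq_of_mul_eq_one_right
  apply sl2_ext <;> rw [mul_entry, coe_wSL, coe_wI] <;> simp

theorem U_mul (a b : F) : sl2U a * sl2U b = sl2U (a + b) := by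
  apply sl2_ext <;>
    simp [SpecialLinearGroup.coe_mul, sl2U_val, Matrix.mul_apply, Fin.sum_univ_two, add_comm]

theorem L_mul (a b : F) : sl2L a * sl2L b = sl2L (a + b) := by
  apply sl2_ext <;>
    simp [SpecialLinearGroup.coe_mul, sl2L_val, Matrix.mul_apply, Fin.sum_univ_two, add_comm]

theorem U_zero : sl2U (0 : F) = 1 := by
  apply sl2_ext <;> simp [sl2U_val]

theorem L_zero : sl2L (0 : F) = 1 := by
  apply sl2_ext <;> simp [sl2L_val]

theorem U_pow (c : F) (n : ℕ) : sl2U c ^ n = sl2U (n * c) := by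
  induction n with
  | zero => simp [U_zero]
  | succ n ih => rw [pow_succ, ih, U_mul]; congr 1; push_cast; ring

theorem L_pow (c : F) (n : ℕ) : sl2L c ^ n = sl2L (n * c) := by
  induction n with
  | zero => simp [L_zero]
  | succ n ih => rw [pow_succ, ih, L_mul]; congr 1; push_cast; ring

theorem odd_U [Fintype F] (hF : Odd (Fintype.card F)) (c : F) : Odd (orderOf (sl2U c)) := by
  have h1 : sl2U c ^ Fintype.card F = 1 := by
    rw [U_pow, Nat.cast_card_eq_zero, zero_mul, U_zero]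
  exact Odd.of_dvd_nat hF (orderOf_dvd_of_pow_eq_one h1)

theorem odd_L [Fintype F] (hF : Odd (Fintype.card F)) (c : F) : Odd (orderOf (sl2L c)) := by
  have h1 : sl2L c ^ Fintype.card F = 1 := by
    rw [L_pow, Nat.cast_card_eq_zero, zero_mul, L_zero]
  exact Odd.of_dvd_nat hF (orderOf_dvd_of_pow_eq_one h1)

theorem closure_odd [Fintype F] (hF : Odd (Fintype.card F)) :
    closure {x : SL | Odd (orderOf x)} = ⊤ := by
  rw [eq_top_iff]
  intro M _
  exact sl2_generated (fun M => M ∈ closure {x : SL | Odd (orderOf x)})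
    (fun c => subset_closure (odd_U hF c)) (fun c => subset_closure (odd_L hF c))
    (fun M N hM hN => mul_mem hM hN) M

theorem comm_PU {x b : SL} (hx10 : x.1 1 0 = 0) (hx : x.1 0 0 = x.1 1 1) (ht : x.1 0 1 ≠ 0)
    (hb : b * x = x * b) : b.1 1 0 = 0 ∧ b.1 0 0 = b.1 1 1 := by
  have e00 : (b * x).1 0 0 = (x * b).1 0 0 := by rw [hb]
  have e01 : (b * x).1 0 1 = (x * b).1 0 1 := by rw [hb]
  rw [mul_entry, mul_entry] at e00 e01
  rw [hx10] at e00
  have h10 : b.1 1 0 = 0 := by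
    have : x.1 0 1 * b.1 1 0 = 0 := by linear_combination -e00
    exact (mul_eq_zero.1 this).resolve_left ht
  refine ⟨h10, ?_⟩
  have : x.1 0 1 * (b.1 0 0 - b.1 1 1) = 0 := by
    linear_combination e01 + (b.1 0 1) * hx
  exact sub_eq_zero.1 ((mul_eq_zero.1 this).resolve_left ht)

theorem comm_PL {x b : SL} (hx01 : x.1 0 1 = 0) (ht : x.1 1 0 ≠ 0)
    (hb : b * x = x * b) : b.1 0 1 = 0 := by
  have e00 : (b * x).1 0 0 = (x * b).1 0 0 := by rw [hb]
  rw [mul_entry, mul_entry] at e00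
  rw [hx01] at e00
  have : x.1 1 0 * b.1 0 1 = 0 := by linear_combination e00
  exact (mul_eq_zero.1 this).resolve_left ht

/-- the centre -/
theorem central (h2 : (2 : F) ≠ 0) (c : SL) (hc : ∀ b : SL, c * b = b * c) : c = 1 ∨ c = zSL := by
  obtain ⟨h10, h00⟩ := comm_PU (x := sl2U 1) (b := c) (by simp [sl2U_val]) (by simp [sl2U_val])
    (by simp [sl2U_val]) (hc _)
  have h01 := comm_PL (x := sl2L 1) (b := c) (by simp [sl2L_val]) (by simp [sl2L_val]) (hc _)
  apply sl2_mul_self_eq_one h2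
  have hd := sl2_det c
  rw [h10, h01, ← h00] at hd
  apply sl2_ext <;>
    simp [SpecialLinearGroup.coe_mul, Matrix.mul_apply, Fin.sum_univ_two, h10, h01]
  · linear_combination hd
  · rw [← h00]; linear_combination hd

/-- central indecomposability of `SL₂(q)`, `q` odd -/
theorem indec [Fintype F] (hF : Odd (Fintype.card F)) (A₁ A₂ : Subgroup SL) (hn₁ : A₁.Normal)
    (hn₂ : A₂.Normal) (hc : ∀ a ∈ A₁, ∀ b ∈ A₂, a * b = b * a)
    (hd : ∀ x : SL, ∃ a ∈ A₁, ∃ b ∈ A₂, x = a * b) : A₁ = ⊤ ∨ A₂ = ⊤ := by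
  -- general step
  have step : ∀ (B₁ B₂ : Subgroup SL), B₂.Normal → (∀ a ∈ B₁, ∀ b ∈ B₂, a * b = b * a) →
      (∀ x : SL, ∃ a ∈ B₁, ∃ b ∈ B₂, x = a * b) →
      (∃ a ∈ B₁, a.1 1 0 = 0 ∧ a.1 0 0 = a.1 1 1 ∧ a.1 0 1 ≠ 0) → B₁ = ⊤ := by
    intro B₁ B₂ hB₂ hcB hdB ⟨a, ha, ha10, ha00, ha01⟩
    have hsq : ∀ b ∈ B₂, b * b = 1 := by
      intro b hb
      obtain ⟨h10, h00⟩ := comm_PU ha10 ha00 ha01 (hcB a ha b hb).symm
      have hb' := hB₂.conj_mem b hb wSL
      obtain ⟨h10', -⟩ := comm_PU ha10 ha00 ha01 (hcB a ha _ hb').symm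
      have h01 : b.1 0 1 = 0 := by
        rw [wSL_inv, mul_entry, mul_entry, mul_entry, coe_wSL, coe_wI] at h10'
        simp at h10'
        exact h10'
      have hdet := sl2_det b
      rw [h10, h01, ← h00] at hdet
      apply sl2_ext <;>
        simp [SpecialLinearGroup.coe_mul, Matrix.mul_apply, Fin.sum_univ_two, h10, h01]
      · linear_combination hdet
      · rw [← h00]; linear_combination hdet
    rw [eq_top_iff, ← closure_odd hF, closure_le]
    intro x hx
    obtain ⟨m, hm⟩ : Odd (orderOf x) := hx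
    obtain ⟨a', ha', b', hb', rfl⟩ := hdB x
    have h1 : (a' * b') * (a' * b') = a' * a' := by
      calc (a' * b') * (a' * b') = a' * (b' * a') * b' := by group
        _ = a' * (a' * b') * b' := by rw [hcB a' ha' b' hb']
        _ = a' * a' * (b' * b') := by group
        _ = a' * a' := by rw [hsq b' hb', mul_one]
    have h2 : a' * b' = ((a' * b') * (a' * b')) ^ (m + 1) := by
      rw [← pow_two, ← pow_mul]
      have : 2 * (m + 1) = orderOf (a' * b') + 1 := by omega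
      rw [this, pow_succ, pow_orderOf_eq_one, one_mul]
    show a' * b' ∈ B₁
    rw [h2, h1]
    exact B₁.pow_mem (B₁.mul_mem ha' ha') _
  obtain ⟨a, ha, b, hb, hab⟩ := hd (sl2U 1)
  have hau : a * sl2U 1 = sl2U 1 * a := by
    rw [hab]
    calc a * (a * b) = a * (b * a) := by rw [hc a ha b hb]
      _ = a * b * a := by group
  have hbu : b * sl2U 1 = sl2U 1 * b := by
    rw [hab]
    calc b * (a * b) = (b * a) * b := by group
      _ = a * b * b := by rw [hc a ha b hb]
  obtain ⟨a10, a00⟩ := comm_PU (x := sl2U 1) (by simp [sl2U_val]) (by simp [sl2U_val])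
    (by simp [sl2U_val]) hau
  obtain ⟨b10, b00⟩ := comm_PU (x := sl2U 1) (by simp [sl2U_val]) (by simp [sl2U_val])
    (by simp [sl2U_val]) hbu
  have e01 : (sl2U (1 : F)).1 0 1 = (a * b).1 0 1 := by rw [hab]
  rw [mul_entry, sl2U_val] at e01
  by_cases ha01 : a.1 0 1 = 0
  · right
    have hb01 : b.1 0 1 ≠ 0 := by
      intro h
      rw [ha01, h] at e01
      simp at e01
    exact step A₂ A₁ hn₁ (fun x hx y hy => (hc y hy x hx).symm) (by
      intro x
      obtain ⟨a', ha', b', hb', rfl⟩ := hd x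
      exact ⟨b', hb', a', ha', hc a' ha' b' hb'⟩) ⟨b, hb, b10, b00, hb01⟩
  · left
    exact step A₁ A₂ hn₂ hc hd ⟨a, ha, a10, a00, ha01⟩

end Cfsg.Agent.Lib.Helper57.SLC
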